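import Groth.Agent.RegLoc.Serre
import Groth.Agent.RegLoc.Homological
import Groth.Agent.RedNorm.Basic
import Groth.Agent.Depth.CM

/-! Normality of regular rings and of hypersurfaces in them. -/

set_option autoImplicit false

open IsLocalRing

universe u

namespace CAlgA.NormalRegular

open Groth.Agent

variable {R : Type u} [CommRing R] [IsNoetherianRing R]

theorem hasSk_two (h : ∀ (p : Ideal R) [p.IsPrime], LocCoh.IsCohenMacaulayLocalRing (Localization.AtPrime p)) :
    LocCoh.HasSk 2 R R := by
  intro p _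
  have := h p
  have hcm : LocCoh.IsCohenMacaulayModule (Localization.AtPrime p) (LocalizedModule p.primeCompl R) :=
    (Depth.isCohenMacaulayModule_congr (Depth.localizedModuleSelfEquiv p.primeCompl)).2
      (Depth.isCohenMacaulayModule_self (Localization.AtPrime p))
  exact (min_le_right _ _).trans hcm.le

theorem isIntegrallyClosed_of_conditions [IsDomain R] (h1 : LocCoh.HasRk 1 R) (h2 : LocCoh.HasSk 2 R R) :
    IsIntegrallyClosed R :=
  IsIntegrallyClosed.of_localization_maximal fun m _ hm => (RegLoc.Serre.serre_criterion.2 ⟨h1, h2⟩ m).2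

theorem isCohenMacaulayLocalRing_of_surjective {A B : Type u} [CommRing A] [CommRing B] [IsRegularLocalRing A]
    [IsLocalRing B] [IsNoetherianRing B] (φ : A →+* B) (hφ : Function.Surjective φ) (x : A)
    (hk : RingHom.ker φ = Ideal.span {x}) : LocCoh.IsCohenMacaulayLocalRing B := by
  have := RegLoc.isDomain A
  let := φ.toAlgebra
  have : Module.Finite A B := Module.Finite.of_surjective (Algebra.linearMap A B) hφ
  have hA := Depth.isCohenMacaulayModule_self A (h := Depth.isCohenMacaulayLocalRing_of_isRegularLocalRing)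
  rw [Depth.isCohenMacaulayLocalRing_iff, Depth.isCohenMacaulayModule_iff_of_surjective (R := A) (S := B) (N := B) hφ]
  have e : (A ⧸ Ideal.span {x}) ≃ₗ[A] B := (Submodule.quotEquivOfEq _ _ (by rw [← hk]; rfl)).trans
    ((Algebra.linearMap A B).quotKerEquivOfSurjective hφ)
  by_cases hx : x = 0
  · have e0 : A ≃ₗ[A] B := LinearEquiv.ofBijective (Algebra.linearMap A B)
      ⟨(RingHom.injective_iff_ker_eq_bot φ).2 (by rw [hk, hx, Ideal.span_singleton_eq_bot]), hφ⟩
    exact (Depth.isCohenMacaulayModule_congr e0).1 hA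
  · have hxm : x ∈ maximalIdeal A := by
      rw [mem_maximalIdeal]
      intro hu
      have h1 : (1 : A) ∈ RingHom.ker φ := by rw [hk, Ideal.span_singleton_eq_top.2 hu]; trivial
      rw [RingHom.mem_ker, map_one] at h1
      exact one_ne_zero h1
    have hreg : IsSMulRegular A x := (isRegular_of_ne_zero hx).left
    have e1 : QuotSMulTop x A ≃ₗ[A] B := (Submodule.quotEquivOfEq _ _ (by
      rw [← Submodule.ideal_span_singleton_smul, smul_eq_mul, Ideal.mul_top])).trans e
    exact (Depth.isCohenMacaulayModule_congr e1).1 ((Depth.isCohenMacaulayModule_quotSMulTop_iff hxm hreg).2 hA)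

theorem isCohenMacaulay_quotient_localization (f : R) (q : Ideal (R ⧸ Ideal.span {f})) [q.IsPrime]
    (hreg : ∀ (p : Ideal R) [p.IsPrime], IsRegularLocalRing (Localization.AtPrime p)) :
    LocCoh.IsCohenMacaulayLocalRing (Localization.AtPrime q) := by
  let P := q.comap (Ideal.Quotient.mk (Ideal.span {f}))
  have := hreg P
  let φ := Localization.localRingHom P q (Ideal.Quotient.mk (Ideal.span {f})) rfl
  have hs : Function.Surjective φ := by
    intro z
    obtain ⟨a, ⟨s, hs⟩, rfl⟩ := IsLocalization.exists_mk'_eq q.primeCompl z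
    obtain ⟨a, rfl⟩ := Ideal.Quotient.mk_surjective a
    obtain ⟨s, rfl⟩ := Ideal.Quotient.mk_surjective s
    exact ⟨IsLocalization.mk' _ a (⟨s, hs⟩ : P.primeCompl), Localization.localRingHom_mk' _ _ _ _ _ _⟩
  refine isCohenMacaulayLocalRing_of_surjective φ hs (algebraMap R _ f) (le_antisymm ?_ ?_)
  · intro z hz
    obtain ⟨a, s, rfl⟩ := IsLocalization.exists_mk'_eq P.primeCompl z
    rw [RingHom.mem_ker, Localization.localRingHom_mk', IsLocalization.mk'_eq_zero_iff] at hz
    obtain ⟨⟨m, hm⟩, hma⟩ := hz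
    obtain ⟨r, rfl⟩ := Ideal.Quotient.mk_surjective m
    rw [← map_mul, Ideal.Quotient.eq_zero_iff_mem, Ideal.mem_span_singleton] at hma
    obtain ⟨w, hw⟩ := hma
    rw [Ideal.mem_span_singleton]
    refine ⟨IsLocalization.mk' _ w (⟨r, hm⟩ * s : P.primeCompl), ?_⟩
    rw [IsLocalization.mul_mk'_eq_mk'_of_mul, IsLocalization.mk'_eq_iff_eq, ← hw]
    push_cast
    ring_nf
  · rw [Ideal.span_singleton_le_iff_mem, RingHom.mem_ker, Localization.localRingHom_to_map,
      Ideal.Quotient.eq_zero_iff_mem.2 (Ideal.mem_span_singleton_self f), map_zero]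

end CAlgA.NormalRegular
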