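import Groth.Agent.FBase.TensorAlgClosed
import Mathlib.RingTheory.Spectrum.Prime.Chevalley
import Mathlib.RingTheory.LocalRing.ResidueField.Fiber
import Mathlib.LinearAlgebra.TensorProduct.Finiteness
import Mathlib.FieldTheory.IsAlgClosed.AlgebraicClosure
import Mathlib.FieldTheory.IntermediateField.Adjoin.Basic

/-! Base change of algebras over a field: fibres of `Spec (R ⊗ S) → Spec R`, finite subextensions,
comparison with separably closed fields. -/

universe u

open TensorProduct PrimeSpectrum Groth.Agent.FBase.TensorAlgClosed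

namespace Groth.Agent.CAlgA.GeomTensor

section Fields

lemma isReduced_of_isDomain (A : Type u) [CommRing A] [IsDomain A] : IsReduced A := inferInstance

variable {k : Type u} [Field k] {S : Type u} [CommRing S] [Algebra k S]

lemma injective_map_left {K L : Type u} [CommRing K] [Algebra k K] [CommRing L] [Algebra k L]
    (i : K →ₐ[k] L) (hi : Function.Injective i) :
    Function.Injective (Algebra.TensorProduct.map i (AlgHom.id k S)) :=
  Module.Flat.rTensor_preserves_injective_linearMap (M := S) i.toLinearMap hi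

lemma injective_map_right {K : Type u} [CommRing K] [Algebra k K] {S' : Type u} [CommRing S']
    [Algebra k S'] (i : S' →ₐ[k] S) (hi : Function.Injective i) :
    Function.Injective (Algebra.TensorProduct.map (AlgHom.id k K) i) :=
  Module.Flat.lTensor_preserves_injective_linearMap (M := K) i.toLinearMap hi

lemma exists_finite_sub {E : Type u} [Field E] [Algebra k E] [Algebra.IsAlgebraic k E]
    (s : Set (E ⊗[k] S)) (hs : s.Finite) :
    ∃ F : IntermediateField k E, FiniteDimensional k F ∧
      s ⊆ Set.range (Algebra.TensorProduct.map F.val (AlgHom.id k S)) := by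
  obtain ⟨M, hM, hsub⟩ := TensorProduct.exists_finite_submodule_left_of_setFinite s hs
  obtain ⟨t, ht⟩ := Module.Finite.iff_fg.1 hM
  let F := IntermediateField.adjoin k (t : Set E)
  have : Finite (t : Set E) := t.finite_toSet
  refine ⟨F, IntermediateField.finiteDimensional_adjoin fun x _ => (Algebra.IsAlgebraic.isAlgebraic x).isIntegral, ?_⟩
  have hle : M ≤ F.toSubalgebra.toSubmodule :=
    ht ▸ Submodule.span_le.2 (IntermediateField.subset_adjoin k _)
  intro x hx
  obtain ⟨y, rfl⟩ := hsub hx
  refine ⟨(Submodule.inclusion hle).rTensor S y, ?_⟩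
  change (F.val.toLinearMap.rTensor S) _ = _
  rw [← LinearMap.comp_apply, ← LinearMap.rTensor_comp]
  rfl

lemma isPrime_nilradical_of_finite {E : Type u} [Field E] [Algebra k E] [Algebra.IsAlgebraic k E]
    (h : ∀ F : IntermediateField k E, FiniteDimensional k F → (nilradical (F ⊗[k] S)).IsPrime) :
    (nilradical (E ⊗[k] S)).IsPrime := by
  refine ⟨(Ideal.ne_top_iff_one _).2 fun h1 => ?_, fun {z w} hzw => ?_⟩
  · obtain ⟨F, hF, -⟩ := exists_finite_sub (k := k) (S := S) (E := E) ∅ Set.finite_empty
    have hp := h F hF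
    apply hp.ne_top
    rw [Ideal.eq_top_iff_one, mem_nilradical,
      ← IsNilpotent.map_iff (injective_map_left (S := S) F.val F.val.injective), map_one]
    exact mem_nilradical.1 h1
  obtain ⟨F, hF, hsub⟩ := exists_finite_sub (k := k) (S := S) (E := E) {z, w} (Set.toFinite _)
  obtain ⟨z', rfl⟩ := hsub (Set.mem_insert _ _)
  obtain ⟨w', rfl⟩ := hsub (Set.mem_insert_of_mem _ rfl)
  have hinj := injective_map_left (S := S) F.val F.val.injective
  rw [← map_mul, mem_nilradical, IsNilpotent.map_iff hinj] at hzw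
  exact ((h F hF).mem_or_mem (mem_nilradical.2 hzw)).imp
    (fun hz => mem_nilradical.2 ((mem_nilradical.1 hz).map _))
    (fun hw => mem_nilradical.2 ((mem_nilradical.1 hw).map _))

lemma isReduced_of_finite {E : Type u} [Field E] [Algebra k E] [Algebra.IsAlgebraic k E]
    (h : ∀ F : IntermediateField k E, FiniteDimensional k F → IsReduced (F ⊗[k] S)) :
    IsReduced (E ⊗[k] S) := by
  refine ⟨fun x hx => ?_⟩
  obtain ⟨F, hF, hsub⟩ := exists_finite_sub (k := k) (S := S) (E := E) {x} (Set.finite_singleton x)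
  obtain ⟨y, rfl⟩ := hsub rfl
  have := h F hF
  rw [((IsNilpotent.map_iff (injective_map_left (S := S) F.val F.val.injective)).1 hx).eq_zero, map_zero]

lemma isDomain_of_finite {E : Type u} [Field E] [Algebra k E] [Algebra.IsAlgebraic k E]
    (h : ∀ F : IntermediateField k E, FiniteDimensional k F → IsDomain (F ⊗[k] S)) :
    IsDomain (E ⊗[k] S) := by
  have : IsReduced (E ⊗[k] S) := isReduced_of_finite fun F hF => by
    have := h F hF
    convert! isReduced_of_isDomain (F ⊗[k] S)
  have hp : (nilradical (E ⊗[k] S)).IsPrime := isPrime_nilradical_of_finite fun F hF => by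
    have := h F hF
    have : IsReduced (F ⊗[k] S) := by convert! isReduced_of_isDomain (F ⊗[k] S)
    rw [nilradical_eq_zero]
    exact Ideal.isPrime_bot
  rw [nilradical_eq_zero] at hp
  have : Nontrivial (E ⊗[k] S) := by
    by_contra hn
    rw [not_nontrivial_iff_subsingleton] at hn
    exact hp.ne_top (Subsingleton.elim _ _)
  have : NoZeroDivisors (E ⊗[k] S) :=
    ⟨fun {a b} hab => by simpa using hp.mem_or_mem (show a * b ∈ (0 : Ideal (E ⊗[k] S)) from hab ▸ zero_mem _)⟩
  exact NoZeroDivisors.to_isDomain _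

variable (S) in
/-- Change of the intermediate field. -/
noncomputable def towerEquiv (E L : Type u) [Field E] [Algebra k E] [Field L] [Algebra k L]
    [Algebra E L] [IsScalarTower k E L] : L ⊗[k] S ≃+* (E ⊗[k] S) ⊗[E] L :=
  (Algebra.TensorProduct.cancelBaseChange k E L L S).symm.toRingEquiv.trans
    (Algebra.TensorProduct.comm E _ _).toRingEquiv

lemma isPrime_nilradical_of_sepClosed {E L : Type u} [Field E] [IsSepClosed E] [Algebra k E]
    [Field L] [Algebra k L] [Algebra E L] [IsScalarTower k E L]
    [(nilradical (E ⊗[k] S)).IsPrime] : (nilradical (L ⊗[k] S)).IsPrime :=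
  have : (nilradical ((E ⊗[k] S) ⊗[E] L)).IsPrime := isPrime_nilradical_tensor_of_isSepClosed
  isPrime_nilradical_of_injective (towerEquiv (k := k) S E L).toRingHom (towerEquiv (k := k) S E L).injective

lemma isDomain_of_algClosed {E L : Type u} [Field E] [IsAlgClosed E] [Algebra k E]
    [Field L] [Algebra k L] [Algebra E L] [IsScalarTower k E L]
    [IsDomain (E ⊗[k] S)] : IsDomain (L ⊗[k] S) :=
  have : IsDomain ((E ⊗[k] S) ⊗[E] L) := isDomain_tensor_field
  (towerEquiv (k := k) S E L).toMulEquiv.isDomain _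

lemma isPrime_nilradical_of_algebraicClosure [hp : (nilradical (AlgebraicClosure k ⊗[k] S)).IsPrime]
    (K : Type u) [Field K] [Algebra k K] : (nilradical (K ⊗[k] S)).IsPrime := by
  let i : AlgebraicClosure k →ₐ[k] AlgebraicClosure K := IsAlgClosed.lift
  let : Algebra (AlgebraicClosure k) (AlgebraicClosure K) := i.toRingHom.toAlgebra
  have : IsScalarTower k (AlgebraicClosure k) (AlgebraicClosure K) := IsScalarTower.of_algHom i
  have := isPrime_nilradical_of_sepClosed (k := k) (S := S) (E := AlgebraicClosure k) (L := AlgebraicClosure K)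
  exact isPrime_nilradical_of_injective
    (Algebra.TensorProduct.map (IsScalarTower.toAlgHom k K (AlgebraicClosure K)) (AlgHom.id k S)).toRingHom
    (injective_map_left _ (RingHom.injective _))

lemma isDomain_of_algebraicClosure [hp : IsDomain (AlgebraicClosure k ⊗[k] S)]
    (K : Type u) [Field K] [Algebra k K] : IsDomain (K ⊗[k] S) := by
  let i : AlgebraicClosure k →ₐ[k] AlgebraicClosure K := IsAlgClosed.lift
  let : Algebra (AlgebraicClosure k) (AlgebraicClosure K) := i.toRingHom.toAlgebra
  have : IsScalarTower k (AlgebraicClosure k) (AlgebraicClosure K) := IsScalarTower.of_algHom i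
  have := isDomain_of_algClosed (k := k) (S := S) (E := AlgebraicClosure k) (L := AlgebraicClosure K)
  exact (injective_map_left (S := S) _ (IsScalarTower.toAlgHom k K (AlgebraicClosure K)).injective).isDomain

end Fields

section Fibres

variable {k R S : Type u} [Field k] [CommRing R] [Algebra k R] [CommRing S] [Algebra k S]

/-- The fibre of `R ⊗ S` over `p`. -/
noncomputable def fibreEquiv (p : Ideal R) [p.IsPrime] :
    p.Fiber (R ⊗[k] S) ≃+* p.ResidueField ⊗[k] S :=
  (Algebra.TensorProduct.cancelBaseChange k R p.ResidueField p.ResidueField S).toRingEquiv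

/-- The spectrum of `κ(p) ⊗ S` is the fibre over `p`. -/
noncomputable def fibreHomeo (p : PrimeSpectrum R) :
    comap (algebraMap R (R ⊗[k] S)) ⁻¹' {p} ≃ₜ PrimeSpectrum (p.asIdeal.ResidueField ⊗[k] S) :=
  (preimageHomeomorphFiber R (R ⊗[k] S) p).trans (homeomorphOfRingEquiv (fibreEquiv p.asIdeal))

lemma surjective_comap_tensor [Nontrivial S] :
    Function.Surjective (comap (algebraMap R (R ⊗[k] S))) := fun p => by
  have : Nontrivial (p.asIdeal.ResidueField ⊗[k] S) :=
    (Algebra.TensorProduct.includeLeft_injective (S := k) (A := p.asIdeal.ResidueField)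
      (RingHom.injective (algebraMap k S))).nontrivial
  exact ⟨_, ((fibreHomeo (k := k) (S := S) p).symm (Classical.arbitrary _)).2⟩

lemma connected_fibre_apart (hfib : ∀ p : PrimeSpectrum R,
      PreconnectedSpace (PrimeSpectrum (p.asIdeal.ResidueField ⊗[k] S)))
    {U : Set (PrimeSpectrum (R ⊗[k] S))} (hU : IsClopen U) {x y : PrimeSpectrum (R ⊗[k] S)}
    (hxy : comap (algebraMap R (R ⊗[k] S)) x = comap (algebraMap R (R ⊗[k] S)) y) (hx : x ∈ U) :
    y ∈ U := by
  let p := comap (algebraMap R (R ⊗[k] S)) x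
  have := hfib p
  let g : PrimeSpectrum (p.asIdeal.ResidueField ⊗[k] S) → PrimeSpectrum (R ⊗[k] S) :=
    fun z => ((fibreHomeo p).symm z).1
  have hg : Continuous g := continuous_subtype_val.comp (fibreHomeo p).symm.continuous
  have hxg : g (fibreHomeo p ⟨x, rfl⟩) = x := congrArg Subtype.val ((fibreHomeo p).symm_apply_apply _)
  have hyg : g (fibreHomeo p ⟨y, hxy.symm⟩) = y := congrArg Subtype.val ((fibreHomeo p).symm_apply_apply _)
  rcases _root_.isClopen_iff.1 (hU.preimage hg) with h | h
  · exact absurd (show fibreHomeo p ⟨x, rfl⟩ ∈ g ⁻¹' U by rw [Set.mem_preimage, hxg]; exact hx) (h ▸ Set.notMem_empty _)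
  · have : fibreHomeo p ⟨y, hxy.symm⟩ ∈ g ⁻¹' U := h ▸ Set.mem_univ _
    rwa [Set.mem_preimage, hyg] at this

lemma connectedSpace_tensor [ConnectedSpace (PrimeSpectrum R)] (hfib : ∀ p : PrimeSpectrum R,
      ConnectedSpace (PrimeSpectrum (p.asIdeal.ResidueField ⊗[k] S))) :
    ConnectedSpace (PrimeSpectrum (R ⊗[k] S)) := by
  have hne : Nonempty (PrimeSpectrum (R ⊗[k] S)) := by
    obtain ⟨p⟩ := (inferInstance : Nonempty (PrimeSpectrum R))
    have := hfib p
    exact ⟨((fibreHomeo (k := k) (S := S) p).symm (Classical.arbitrary _)).1⟩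
  have : PreconnectedSpace (PrimeSpectrum (R ⊗[k] S)) := by
    rw [preconnectedSpace_iff_clopen]
    intro U hU
    by_contra hcon
    push Not at hcon
    obtain ⟨h1, h2⟩ := hcon
    let f := comap (algebraMap R (R ⊗[k] S))
    have hf : IsOpenMap f := isOpenMap_comap_algebraMap_tensorProduct_of_field
    have hcl : IsClopen (f '' U) := by
      refine ⟨⟨?_⟩, hf U hU.isOpen⟩
      convert hf Uᶜ hU.compl.isOpen using 1
      ext p
      constructor
      · intro hp
        have := hfib p
        obtain ⟨x, hx⟩ : ∃ x, f x = p := ⟨_, ((fibreHomeo (k := k) (S := S) p).symm (Classical.arbitrary _)).2⟩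
        exact ⟨x, fun hxU => hp ⟨x, hxU, hx⟩, hx⟩
      · rintro ⟨x, hx, rfl⟩ ⟨y, hy, hyx⟩
        exact hx (connected_fibre_apart (fun p => (hfib p).toPreconnectedSpace) hU hyx hy)
    rcases _root_.isClopen_iff.1 hcl with h | h
    · exact h1.ne_empty (Set.image_eq_empty.1 h)
    · obtain ⟨y, hy⟩ := (Set.ne_univ_iff_exists_notMem _).1 h2
      obtain ⟨x, hx, hxy⟩ : f y ∈ f '' U := h ▸ Set.mem_univ _
      exact hy (connected_fibre_apart (fun p => (hfib p).toPreconnectedSpace) hU hxy hx)
  exact ⟨hne⟩

lemma irreducibleSpace_tensor [IrreducibleSpace (PrimeSpectrum R)] (hfib : ∀ p : PrimeSpectrum R,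
      IrreducibleSpace (PrimeSpectrum (p.asIdeal.ResidueField ⊗[k] S))) :
    IrreducibleSpace (PrimeSpectrum (R ⊗[k] S)) := by
  let f := comap (algebraMap R (R ⊗[k] S))
  have hf : IsOpenMap f := isOpenMap_comap_algebraMap_tensorProduct_of_field
  have hne : Nonempty (PrimeSpectrum (R ⊗[k] S)) := by
    obtain ⟨p⟩ := (inferInstance : Nonempty (PrimeSpectrum R))
    have := hfib p
    exact ⟨((fibreHomeo (k := k) (S := S) p).symm (Classical.arbitrary _)).1⟩
  have : PreirreducibleSpace (PrimeSpectrum (R ⊗[k] S)) := ⟨by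
    intro U V hU hV hU' hV'
    rw [Set.univ_inter] at hU' hV' ⊢
    obtain ⟨p, ⟨u, hu, hup⟩, ⟨v, hv, hvp⟩⟩ :=
      nonempty_preirreducible_inter (hf U hU) (hf V hV) (hU'.image _) (hV'.image _)
    have := hfib p
    let g : PrimeSpectrum (p.asIdeal.ResidueField ⊗[k] S) → PrimeSpectrum (R ⊗[k] S) :=
      fun z => ((fibreHomeo p).symm z).1
    have hg : Continuous g := continuous_subtype_val.comp (fibreHomeo p).symm.continuous
    obtain ⟨z, hz⟩ := nonempty_preirreducible_inter (hU.preimage hg) (hV.preimage hg)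
      ⟨fibreHomeo p ⟨u, hup⟩, by simpa [g] using hu⟩ ⟨fibreHomeo p ⟨v, hvp⟩, by simpa [g] using hv⟩
    exact ⟨g z, hz⟩⟩
  exact ⟨hne⟩

end Fibres

end Groth.Agent.CAlgA.GeomTensor
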