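import Groth.Prelude.Def_FlatCA
import Groth.Agent.WeakAss.Basic
import Mathlib.RingTheory.Ideal.Quotient.Operations
import Mathlib.LinearAlgebra.TensorProduct.Quotient
import Mathlib.LinearAlgebra.TensorProduct.RightExactness
import Mathlib.LinearAlgebra.TensorProduct.Finiteness

/-! The fibre module `N ⊗ κ(p)` versus `N/pN`. -/

universe u

open TensorProduct Algebra.TensorProduct

namespace Groth.Agent.CAlgA.FibreMod

variable {R S : Type u} [CommRing R] [CommRing S] [Algebra R S] (N : Type u) [AddCommGroup N]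
  [Module S N] [Module R N] [IsScalarTower R S N] (p : Ideal R) [p.IsPrime]

/-- `pN` as an `S`-submodule. -/
abbrev pN : Submodule S N := p.map (algebraMap R S) • (⊤ : Submodule S N)

attribute [local instance] Algebra.TensorProduct.rightAlgebra

lemma algebraMap_fiber (a : S) :
    algebraMap S (p.Fiber S) a = includeRight (R := R) (A := p.ResidueField) a := rfl

lemma toFiberMod_apply (n : N) : FlatCA.toFiberMod p S N n = (1 : p.Fiber S) ⊗ₜ[S] n := rfl

lemma includeRight_smul (a : S) (x : FlatCA.fiberMod p S N) :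
    (includeRight (R := R) (A := p.ResidueField) a : p.Fiber S) • x = a • x :=
  IsScalarTower.algebraMap_smul (p.Fiber S) (M := (p.Fiber S) ⊗[S] N) a x

lemma isUnit_of_notMem {r : R} (hr : r ∉ p) :
    IsUnit (includeRight (R := R) (A := p.ResidueField) (algebraMap R S r) : p.Fiber S) := by
  rw [AlgHom.commutes, IsScalarTower.algebraMap_apply R p.ResidueField (p.Fiber S)]
  refine (IsUnit.map _ (isUnit_iff_ne_zero.2 ?_))
  rwa [Ne, Ideal.algebraMap_residueField_eq_zero]

lemma eq_zero_of_smul_eq_zero {r : R} (hr : r ∉ p) {x : FlatCA.fiberMod p S N}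
    (h : algebraMap R S r • x = 0) : x = 0 := by
  rw [← includeRight_smul] at h
  exact (isUnit_of_notMem p hr).smul_eq_zero.1 h

lemma exists_smul_eq (x : FlatCA.fiberMod p S N) :
    ∃ r ∉ p, ∃ n : N, algebraMap R S r • x = FlatCA.toFiberMod p S N n := by
  change (p.Fiber S) ⊗[S] N at x
  induction x using TensorProduct.induction_on with
  | zero => exact ⟨1, fun h => ‹p.IsPrime›.ne_top ((Ideal.eq_top_iff_one _).2 h), 0, by rw [map_zero]; exact smul_zero (A := (p.Fiber S) ⊗[S] N) _⟩
  | tmul y n =>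
    obtain ⟨r, hr, s, e⟩ := Ideal.Fiber.exists_smul_eq_one_tmul p y
    refine ⟨r, hr, s • n, ?_⟩
    change algebraMap R S r • (y ⊗ₜ[S] n) = (1 : p.Fiber S) ⊗ₜ[S] (s • n)
    rw [TensorProduct.smul_tmul', ← TensorProduct.smul_tmul]
    congr 1
    rw [Algebra.smul_def, Algebra.smul_def, algebraMap_fiber, algebraMap_fiber, mul_one,
      AlgHom.commutes, ← Algebra.smul_def, e]
    rfl
  | add x y hx hy =>
    obtain ⟨r, hr, n, hn⟩ := hx
    obtain ⟨r', hr', n', hn'⟩ := hy
    refine ⟨r * r', fun h => (‹p.IsPrime›.mem_or_mem h).elim hr hr',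
      algebraMap R S r' • n + algebraMap R S r • n', ?_⟩
    rw [map_add, map_smul, map_smul, ← hn, ← hn', smul_smul, smul_smul, ← map_mul, ← map_mul, mul_comm r' r]
    exact smul_add (A := (p.Fiber S) ⊗[S] N) _ _ _

lemma toFiberMod_eq_zero_of_mem {n : N} (hn : n ∈ pN (S := S) N p) : FlatCA.toFiberMod p S N n = 0 := by
  refine Submodule.smul_induction_on hn (fun a ha m _ => ?_) fun x y hx hy => by rw [map_add, hx, hy, add_zero]
  rw [map_smul, ← includeRight_smul]
  have : (includeRight (R := R) (A := p.ResidueField) a : p.Fiber S) = 0 := by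
    refine Submodule.span_induction ?_ (map_zero _) (fun a b _ _ ha hb => by rw [map_add, ha, hb, add_zero])
      (fun a b _ hb => by rw [smul_eq_mul, map_mul, hb, mul_zero]) ha
    rintro _ ⟨r, hr, rfl⟩
    rw [AlgHom.commutes, IsScalarTower.algebraMap_apply R p.ResidueField (p.Fiber S),
      Ideal.algebraMap_residueField_eq_zero.2 hr, map_zero]
  rw [this, zero_smul]

lemma exists_smul_mem {n : N} (h : FlatCA.toFiberMod p S N n = 0) :
    ∃ r ∉ p, algebraMap R S r • n ∈ pN (S := S) N p := by
  let T := Algebra.algebraMapSubmonoid S p.primeCompl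
  let Sp := Localization T
  let I : Ideal Sp := (p.map (algebraMap R S)).map (algebraMap S Sp)
  let M' := LocalizedModule T (N ⧸ pN (S := S) N p)
  have htors : Module.IsTorsionBySet Sp M' I := by
    intro x a
    have : (I : Ideal Sp) ≤ Module.annihilator Sp M' := by
      rw [Ideal.map_le_iff_le_comap]
      intro b hb
      rw [Ideal.mem_comap, Module.mem_annihilator]
      intro y
      induction y using LocalizedModule.induction_on with
      | h m t =>
        obtain ⟨m, rfl⟩ := Submodule.mkQ_surjective _ m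
        rw [algebraMap_smul, LocalizedModule.smul'_mk, ← map_smul,
          show (pN (S := S) N p).mkQ (b • m) = 0 from (Submodule.Quotient.mk_eq_zero _).2
            (Submodule.smul_mem_smul hb Submodule.mem_top), LocalizedModule.zero_mk]
    exact Module.mem_annihilator.1 (this a.2) x
  let : Module (Sp ⧸ I) M' := htors.module
  have : IsScalarTower S (Sp ⧸ I) M' := htors.isScalarTower
  let e := Ideal.Fiber.algEquivAux₁ (S := S) p
  let μ : N →ₗ[S] M' := (LocalizedModule.mkLinearMap T (N ⧸ pN (S := S) N p)).comp (pN (S := S) N p).mkQ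
  let Φ : (p.Fiber S) ⊗[S] N →ₗ[S] M' :=
    TensorProduct.lift (LinearMap.mk₂ S (fun y m => e y • μ m)
      (fun y y' m => by rw [map_add, add_smul]) (fun c y m => by rw [map_smul, smul_assoc])
      (fun y m m' => by rw [map_add, smul_add]) (fun c y m => by rw [map_smul, smul_comm]))
  have h0 : Φ ((1 : p.Fiber S) ⊗ₜ[S] n) = 0 := by
    rw [← toFiberMod_apply, h]; exact map_zero Φ
  simp only [Φ, TensorProduct.lift.tmul, LinearMap.mk₂_apply, map_one, one_smul] at h0
  obtain ⟨⟨_, r, hr, rfl⟩, hc⟩ := (WeakAss.mk_eq_zero T).1 h0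
  exact ⟨r, hr, (Submodule.Quotient.mk_eq_zero _).1 ((Submodule.Quotient.mk_smul _ _ _).trans hc)⟩

lemma mem_pN_of_smul_mem [Module.Flat R N] {r : R} (hr : r ∉ p) {n : N}
    (h : algebraMap R S r • n ∈ pN (S := S) N p) : n ∈ pN (S := S) N p := by
  have heq : (pN (S := S) N p).restrictScalars R = p • (⊤ : Submodule R N) := by
    rw [pN, Submodule.restrictScalars_map_smul_eq, Submodule.restrictScalars_top]
  rw [← Submodule.restrictScalars_mem R, heq] at h ⊢
  rw [algebraMap_smul] at h
  let q := (r : R) • (LinearMap.id : R ⧸ p →ₗ[R] R ⧸ p)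
  have hq : Function.Injective q := by
    rw [injective_iff_map_eq_zero]
    intro a ha
    obtain ⟨a, rfl⟩ := Ideal.Quotient.mk_surjective a
    have ha' : Ideal.Quotient.mk p (r * a) = 0 := ha
    rw [Ideal.Quotient.eq_zero_iff_mem] at ha' ⊢
    exact (‹p.IsPrime›.mem_or_mem ha').resolve_left hr
  have hinj := Module.Flat.rTensor_preserves_injective_linearMap (M := N) q hq
  let e := quotTensorEquivQuotSMul N p
  rw [← Submodule.Quotient.mk_eq_zero] at h ⊢
  rw [← e.symm.map_eq_zero_iff]
  apply hinj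
  rw [map_zero, show q.rTensor N = r • LinearMap.id by
    rw [LinearMap.rTensor_smul, LinearMap.rTensor_id]]
  simp only [LinearMap.smul_apply, LinearMap.id_apply]
  rw [← map_smul, ← Submodule.Quotient.mk_smul, h, map_zero]

lemma comap_map_le {p : Ideal R} {q : Ideal S} {P : Type u} [AddCommGroup P] [Module S P] {m : P}
    (hq : q = (Submodule.span S {m}).annihilator)
    (h : ∀ a ∈ p.map (algebraMap R S), a • m = 0) : p.map (algebraMap R S) ≤ q := fun a ha => by
  rw [hq, WeakAss.mem_ann]; exact h a ha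

omit p in
lemma exists_fg_lTensor_eq_zero {M : Type u} [AddCommGroup M] [Module R M] (M' : Submodule R M)
    (hM' : M'.FG) (y : N ⊗[R] M') (hy : M'.subtype.lTensor N y = 0) :
    ∃ (M'' : Submodule R M) (hle : M' ≤ M''), M''.FG ∧ (Submodule.inclusion hle).lTensor N y = 0 := by
  classical
  let π : (M →₀ R) →ₗ[R] M := Finsupp.linearCombination R id
  obtain ⟨s, rfl⟩ := TensorProduct.exists_finset y
  let w : N ⊗[R] (M →₀ R) := ∑ i ∈ s, i.1 ⊗ₜ Finsupp.single i.2.1 1
  have hw : π.lTensor N w = 0 := by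
    rw [← hy]; simp [w, π, map_sum]
  have hπ : Function.Surjective π := fun m => ⟨Finsupp.single m 1, by simp [π]⟩
  obtain ⟨z, hz⟩ := (lTensor_exact N (M := π.ker) (f := π.ker.subtype) π.exact_subtype_ker_map hπ w).1 hw
  obtain ⟨s', hs'⟩ := TensorProduct.exists_finset z
  let F : Finset M := s'.biUnion (fun i => i.2.1.support) ∪ s.image (fun i => i.2.1)
  let M'' := M' ⊔ Submodule.span R (F : Set M)
  refine ⟨M'', le_sup_left, hM'.sup ⟨F, rfl⟩, ?_⟩
  let ρ : (M →₀ R) →ₗ[R] M'' := Finsupp.linearCombination R fun x =>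
    if hx : x ∈ F then ⟨x, Submodule.mem_sup_right (Submodule.subset_span hx)⟩ else 0
  have hρ : ∀ v : M →₀ R, v.support ⊆ F → (ρ v : M) = π v := fun v hv => by
    simp only [ρ, π, Finsupp.linearCombination_apply, Finsupp.sum, Submodule.coe_sum, Submodule.coe_smul, id]
    exact Finset.sum_congr rfl fun x hx => by rw [dif_pos (hv hx)]
  have h1 : ρ.lTensor N w = 0 := by
    rw [← hz, hs', map_sum, map_sum]
    refine Finset.sum_eq_zero fun i hi => ?_
    have h2 : ρ i.2.1 = 0 := Subtype.ext (by
      rw [hρ _ (fun x hx => Finset.mem_union_left _ (Finset.mem_biUnion.2 ⟨i, hi, hx⟩))]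
      exact i.2.2)
    simp [h2]
  refine Eq.trans ?_ h1
  simp only [w, map_sum, LinearMap.lTensor_tmul]
  refine Finset.sum_congr rfl fun i hi => ?_
  congr 1
  apply Subtype.ext
  rw [hρ _ (fun x hx => ?_)]
  · simp [π]
  · rw [Finset.mem_singleton.1 (Finsupp.support_single_subset hx)]
    exact Finset.mem_union_right _ (Finset.mem_image_of_mem _ hi)

end Groth.Agent.CAlgA.FibreMod
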