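import Groth.Agent.CAlgA.FibreMod
import Mathlib.RingTheory.Ideal.AssociatedPrime.Finiteness

/-! Associated primes of `N ⊗ M`. -/

universe u

open TensorProduct

namespace Groth.Agent.CAlgA.AssTensor

variable {S : Type u} [CommRing S]

lemma ass_subset_union {L M P : Type u} [AddCommGroup L] [Module S L] [AddCommGroup M] [Module S M]
    [AddCommGroup P] [Module S P] {f : L →ₗ[S] M} {g : M →ₗ[S] P} (hf : Function.Injective f)
    (hfg : Function.Exact f g) : FlatCA.ass S M ⊆ FlatCA.ass S L ∪ FlatCA.ass S P := by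
  rintro q ⟨hq, x, hx⟩
  by_cases h : ∃ a ∉ q, ∃ l, f l = a • x
  · obtain ⟨a, ha, l, hl⟩ := h
    refine Or.inl ⟨hq, l, ?_⟩
    rw [← WeakAss.ann_map hf l, hl]
    ext b
    rw [WeakAss.mem_ann, smul_smul, hx, WeakAss.mem_ann]
    refine ⟨fun hb => by rw [mul_comm, mul_smul, hb, smul_zero], fun hb => ?_⟩
    rw [← WeakAss.mem_ann, ← hx] at hb ⊢
    exact (hq.mem_or_mem hb).resolve_right ha
  · push Not at h
    refine Or.inr ⟨hq, g x, le_antisymm (fun b hb => ?_) fun b hb => ?_⟩
    · rw [WeakAss.mem_ann, ← map_smul, show b • x = 0 from WeakAss.mem_ann.1 (hx ▸ hb), map_zero]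
    · rw [WeakAss.mem_ann, ← map_smul] at hb
      obtain ⟨l, hl⟩ := (hfg _).1 hb
      by_contra hbq
      exact h b hbq l hl

variable {R : Type u} [CommRing R] [Algebra R S] (N : Type u) [AddCommGroup N] [Module S N]
  [Module R N] [IsScalarTower R S N] (p : Ideal R)

/-- `n ↦ n ⊗ 1` from `N/pN` to `N ⊗ R/p`. -/
noncomputable def quotToTensor : (N ⧸ p.map (algebraMap R S) • (⊤ : Submodule S N)) →ₗ[S] N ⊗[R] (R ⧸ p) :=
  Submodule.liftQ _
    { toFun := fun n => n ⊗ₜ 1
      map_add' := fun a b => add_tmul a b 1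
      map_smul' := fun a b => (smul_tmul' a b 1).symm }
    (by
      intro n hn
      rw [LinearMap.mem_ker]
      have : n ∈ (p.map (algebraMap R S) • (⊤ : Submodule S N)).restrictScalars R := hn
      rw [Submodule.restrictScalars_map_smul_eq, Submodule.restrictScalars_top] at this
      refine Submodule.smul_induction_on this (fun r hr m _ => ?_) fun x y hx hy => by
        simp only [LinearMap.coe_mk, AddHom.coe_mk] at hx hy ⊢
        rw [add_tmul, hx, hy, add_zero]
      simp only [LinearMap.coe_mk, AddHom.coe_mk]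
      rw [smul_tmul, Algebra.smul_def, Ideal.Quotient.algebraMap_eq, mul_one,
        Ideal.Quotient.eq_zero_iff_mem.2 hr, tmul_zero])

lemma quotToTensor_bijective : Function.Bijective (quotToTensor (S := S) N p) := by
  constructor
  · rw [injective_iff_map_eq_zero]
    intro y hy
    obtain ⟨n, rfl⟩ := Submodule.Quotient.mk_surjective _ y
    have h := congrArg (tensorQuotEquivQuotSMul N p) hy
    rw [map_zero] at h
    have h' : tensorQuotEquivQuotSMul N p (n ⊗ₜ[R] (Ideal.Quotient.mk p 1)) = 0 := h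
    rw [tensorQuotEquivQuotSMul_tmul_mk, one_smul, Submodule.Quotient.mk_eq_zero] at h'
    rw [Submodule.Quotient.mk_eq_zero, ← Submodule.restrictScalars_mem R,
      Submodule.restrictScalars_map_smul_eq, Submodule.restrictScalars_top]
    exact h'
  · intro z
    induction z using TensorProduct.induction_on with
    | zero => exact ⟨0, map_zero _⟩
    | tmul n c =>
      obtain ⟨r, rfl⟩ := Ideal.Quotient.mk_surjective c
      refine ⟨Submodule.Quotient.mk (r • n), ?_⟩
      change (r • n) ⊗ₜ[R] (1 : R ⧸ p) = _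
      rw [smul_tmul, Algebra.smul_def, Ideal.Quotient.algebraMap_eq, mul_one]
    | add a b ha hb =>
      obtain ⟨x, rfl⟩ := ha
      obtain ⟨y, rfl⟩ := hb
      exact ⟨x + y, map_add _ _ _⟩

lemma ass_tensor_quot : FlatCA.ass S (N ⊗[R] (R ⧸ p)) = FlatCA.ass S (N ⧸ p.map (algebraMap R S) • (⊤ : Submodule S N)) :=
  let e := LinearEquiv.ofBijective _ (quotToTensor_bijective (S := S) N p)
  Set.Subset.antisymm (WeakAss.ass_mono (f := e.symm.toLinearMap) e.symm.injective)
    (WeakAss.ass_mono (f := e.toLinearMap) e.injective)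

end Groth.Agent.CAlgA.AssTensor
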