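import Mathlib.RingTheory.Spectrum.Prime.ConstructibleSet
import Mathlib.RingTheory.Spectrum.Prime.Jacobson
import Mathlib.RingTheory.Jacobson.Ring
import Mathlib.RingTheory.Valuation.LocalSubring
import Mathlib.RingTheory.Algebraic.Integral
import Mathlib.RingTheory.FiniteType
import Mathlib.RingTheory.Localization.FractionRing
import Mathlib.RingTheory.Localization.AtPrime.Basic
import Mathlib.RingTheory.IntegralClosure.Algebra.Basic
import Mathlib.RingTheory.IntegralClosure.IntegrallyClosed
import Mathlib.RingTheory.Valuation.Integral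
import Mathlib.RingTheory.Ideal.GoingUp

/-! Images of constructible sets under finite type maps. -/

namespace CAlgA

open Polynomial

/-- If a domain `T` is generated over the domain `A` by one element, then for `h ≠ 0` in `T` all primes
of `A` outside some `V(d)`, `d ≠ 0`, lift to primes of `T` not containing `h`. -/
theorem exists_lift_one {A T : Type*} [CommRing A] [IsDomain A] [CommRing T] [IsDomain T] [Algebra A T]
    (hinj : Function.Injective (algebraMap A T)) (φ : A[X] →ₐ[A] T) (hφ : Function.Surjective φ)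
    (h : T) (hh : h ≠ 0) :
    ∃ d : A, d ≠ 0 ∧ ∀ p : Ideal A, p.IsPrime → d ∉ p →
      ∃ q : Ideal T, q.IsPrime ∧ q.comap (algebraMap A T) = p ∧ h ∉ q := by
  by_cases hker : Function.Injective φ
  · obtain ⟨H, rfl⟩ := hφ h
    have hH : H ≠ 0 := fun e => hh (by rw [e, map_zero])
    refine ⟨H.leadingCoeff, leadingCoeff_ne_zero.2 hH, fun p hp hd => ?_⟩
    let e : A[X] ≃+* T := RingEquiv.ofBijective φ.toRingHom ⟨hker, hφ⟩
    have : (p.map C : Ideal A[X]).IsPrime := Ideal.isPrime_map_C_of_isPrime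
    refine ⟨(p.map C).comap e.symm.toRingHom, Ideal.IsPrime.comap _, ?_, ?_⟩
    · ext x
      have hx : e.symm (algebraMap A T x) = C x := by
        apply e.injective; rw [RingEquiv.apply_symm_apply]; exact (φ.commutes x).symm
      rw [Ideal.mem_comap, Ideal.mem_comap]
      show e.symm (algebraMap A T x) ∈ p.map C ↔ _
      rw [hx, Ideal.mem_map_C_iff]
      refine ⟨fun h => by simpa using h 0, fun h n => ?_⟩
      rw [coeff_C]; split_ifs
      · exact h
      · exact p.zero_mem
    · intro hq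
      have : e.symm (φ H) = H := e.injective (by rw [RingEquiv.apply_symm_apply]; rfl)
      change e.symm (φ H) ∈ p.map C at hq
      rw [this, Ideal.mem_map_C_iff] at hq
      exact hd (hq _)
  · obtain ⟨P, hP, hP0⟩ : ∃ P : A[X], φ P = 0 ∧ P ≠ 0 := by
      by_contra hc
      push Not at hc
      exact hker ((injective_iff_map_eq_zero φ).2 hc)
    have hxP : aeval (φ X) P = 0 := by rw [aeval_algHom_apply, aeval_X_left, AlgHom.id_apply, hP]
    let K := FractionRing T
    let ι : T →+* K := algebraMap T K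
    have hιA : Function.Injective (ι.comp (algebraMap A T)) := (IsFractionRing.injective T K).comp hinj
    have halg : Algebra.IsAlgebraic A T := by
      constructor
      intro t
      obtain ⟨Q, rfl⟩ := hφ t
      rw [show φ Q = aeval (φ X) Q by rw [aeval_algHom_apply, aeval_X_left, AlgHom.id_apply]]
      have hx : IsAlgebraic A (φ X) := ⟨P, hP0, hxP⟩
      induction Q using Polynomial.induction_on' with
      | add Q R hQ hR => rw [map_add]; exact hQ.add hR
      | monomial n a => rw [aeval_monomial]; exact (isAlgebraic_algebraMap a).mul (hx.pow n)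
    obtain ⟨d, hd0, hd⟩ := (halg.isAlgebraic h).exists_nonzero_dvd (mem_nonZeroDivisors_of_ne_zero hh)
    refine ⟨P.leadingCoeff * d, mul_ne_zero (leadingCoeff_ne_zero.2 hP0) hd0, fun p hp hpd => ?_⟩
    let f : A →+* K := ι.comp (algebraMap A T)
    have hf : ∀ s : p.primeCompl, IsUnit (f s) := fun s => by
      refine IsUnit.mk0 _ ((map_ne_zero_iff f hιA).2 fun h0 => s.2 ?_)
      rw [show (s : A) = 0 from h0]; exact p.zero_mem
    let g : Localization.AtPrime p →+* K := IsLocalization.lift hf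
    have hginj : Function.Injective g := by
      rw [IsLocalization.lift_injective_iff]
      intro x y
      constructor
      · intro hxy; rw [IsLocalization.eq_iff_exists p.primeCompl] at hxy
        obtain ⟨c, hc⟩ := hxy
        exact congrArg f (mul_left_cancel₀ (fun h0 => c.2 (by rw [show (c : A) = 0 from h0]; exact p.zero_mem)) hc)
      · intro hxy; rw [hιA hxy]
    let I : Ideal g.range := (IsLocalRing.maximalIdeal (Localization.AtPrime p)).map g.rangeRestrict
    have hI : I ≠ ⊤ := by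
      intro htop
      let e : Localization.AtPrime p ≃+* g.range := RingEquiv.ofBijective g.rangeRestrict
        ⟨fun a b hab => hginj (congrArg Subtype.val hab), g.rangeRestrict_surjective⟩
      have : I.comap g.rangeRestrict = ⊤ := by rw [htop]; rfl
      rw [show I.comap g.rangeRestrict = IsLocalRing.maximalIdeal (Localization.AtPrime p) from Ideal.comap_map_of_bijective g.rangeRestrict e.bijective] at this
      exact (IsLocalRing.maximalIdeal.isMaximal _).ne_top this
    obtain ⟨V, hgV, hIV⟩ := Ideal.image_subset_nonunits_valuationSubring I hI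
    have hfV : ∀ a, f a ∈ V := fun a => hgV ⟨algebraMap A _ a, IsLocalization.lift_eq hf a⟩
    let fV : A →+* V := f.codRestrict V.toSubring hfV
    have hc : IsUnit (fV P.leadingCoeff) := by
      have hcp : P.leadingCoeff ∉ p := fun hm => hpd (p.mul_mem_right _ hm)
      obtain ⟨u, hu⟩ := IsLocalization.map_units (Localization.AtPrime p) (⟨_, hcp⟩ : p.primeCompl)
      refine IsUnit.of_mul_eq_one (⟨g ↑u⁻¹, hgV ⟨_, rfl⟩⟩ : V) (Subtype.ext ?_)
      show f P.leadingCoeff * g ↑u⁻¹ = 1
      rw [← IsLocalization.lift_eq (S := Localization.AtPrime p) hf P.leadingCoeff]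
      change g (algebraMap A (Localization.AtPrime p) P.leadingCoeff) * g ↑u⁻¹ = 1
      rw [← map_mul, ← hu, Units.mul_inv, map_one]
    have hxV : ι (φ X) ∈ V := by
      have : IsIntegral V (ι (φ X)) := by
        refine ⟨C (↑hc.unit⁻¹ : V) * P.map fV, ?_, ?_⟩
        · refine monic_C_mul_of_mul_leadingCoeff_eq_one ?_
          rw [leadingCoeff_map_of_leadingCoeff_ne_zero _ hc.ne_zero]
          exact hc.val_inv_mul
        · rw [eval₂_mul, eval₂_map, show ((algebraMap V K).comp fV) = ι.comp (algebraMap A T) from RingHom.ext fun _ => rfl,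
            ← hom_eval₂, show P.eval₂ (algebraMap A T) (φ X) = 0 from hxP, map_zero, mul_zero]
      obtain ⟨y, hy⟩ := IsIntegrallyClosed.isIntegral_iff.1 this
      exact hy ▸ y.2
    have hTV : ∀ t, ι t ∈ V := fun t => by
      obtain ⟨Q, rfl⟩ := hφ t
      induction Q using Polynomial.induction_on' with
      | add Q R hQ hR => rw [map_add, map_add]; exact add_mem hQ hR
      | monomial n a =>
        rw [← C_mul_X_pow_eq_monomial, map_mul, map_mul, map_pow, map_pow,
          show φ (C a) = algebraMap A T a from φ.commutes a]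
        exact mul_mem (hfV a) (pow_mem hxV n)
    let q : Ideal T := (IsLocalRing.maximalIdeal V).comap (ι.codRestrict V.toSubring hTV)
    have hqc : q.comap (algebraMap A T) = p := by
      ext a
      rw [Ideal.mem_comap, Ideal.mem_comap]
      constructor
      · intro ha
        by_contra hap
        apply (IsLocalRing.mem_maximalIdeal _).1 ha
        obtain ⟨u, hu⟩ := IsLocalization.map_units (Localization.AtPrime p) (⟨_, hap⟩ : p.primeCompl)
        refine IsUnit.of_mul_eq_one (⟨g ↑u⁻¹, hgV ⟨_, rfl⟩⟩ : V) (Subtype.ext ?_)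
        show f a * g ↑u⁻¹ = 1
        rw [← IsLocalization.lift_eq (S := Localization.AtPrime p) hf a]
        change g (algebraMap A (Localization.AtPrime p) a) * g ↑u⁻¹ = 1
        rw [← map_mul, ← hu, Units.mul_inv, map_one]
      · intro hap
        have : g (algebraMap A _ a) ∈ V.nonunits := hIV ⟨g.rangeRestrict (algebraMap A _ a),
          Ideal.mem_map_of_mem _ ((IsLocalization.AtPrime.to_map_mem_maximal_iff _ p a).2 hap), rfl⟩
        rw [show g (algebraMap A _ a) = f a from IsLocalization.lift_eq hf a,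
          ValuationSubring.mem_nonunits_iff_exists_mem_maximalIdeal] at this
        obtain ⟨_, hm⟩ := this
        exact hm
    refine ⟨q, inferInstance, hqc, fun hq => hpd (p.mul_mem_left _ ?_)⟩
    obtain ⟨w, hw⟩ := hd
    rw [← hqc, Ideal.mem_comap, hw]
    exact q.mul_mem_right _ hq

/-- All primes of `R` outside some `V(a)`, `a ≠ 0`, lift to primes of a finite type domain extension
not containing a given nonzero element. -/
theorem exists_lift {R T : Type*} [CommRing R] [CommRing T] [IsDomain T] [Algebra R T] [Algebra.FiniteType R T]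
    (hinj : Function.Injective (algebraMap R T)) (h : T) (hh : h ≠ 0) :
    ∃ a : R, a ≠ 0 ∧ ∀ p : Ideal R, p.IsPrime → a ∉ p →
      ∃ q : Ideal T, q.IsPrime ∧ q.comap (algebraMap R T) = p ∧ h ∉ q := by
  classical
  suffices key : ∀ s : Finset T, ∀ h : Algebra.adjoin R (s : Set T), h ≠ 0 → ∃ a : R, a ≠ 0 ∧ ∀ p : Ideal R,
      p.IsPrime → a ∉ p → ∃ q : Ideal (Algebra.adjoin R (s : Set T)), q.IsPrime ∧
        q.comap (algebraMap R _) = p ∧ h ∉ q by
    obtain ⟨s, hs⟩ := (inferInstance : Algebra.FiniteType R T).out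
    let e : Algebra.adjoin R (s : Set T) ≃ₐ[R] T := (Subalgebra.equivOfEq _ _ hs).trans Subalgebra.topEquiv
    obtain ⟨a, ha, H⟩ := key s (e.symm h) (by simpa using hh)
    refine ⟨a, ha, fun p hp hap => ?_⟩
    obtain ⟨q, hq, hqc, hhq⟩ := H p hp hap
    refine ⟨q.comap e.symm.toRingHom, inferInstance, ?_, hhq⟩
    rw [Ideal.comap_comap, ← hqc]
    congr 1
  have : IsDomain R := hinj.isDomain
  intro s
  induction s using Finset.induction with
  | empty =>
    intro h hh
    obtain ⟨r, hr⟩ : ∃ r : R, algebraMap R _ r = h := by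
      obtain ⟨r, hr⟩ := Algebra.mem_bot.1 (show (h : T) ∈ (⊥ : Subalgebra R T) by
        rw [← Algebra.adjoin_empty R T, ← Finset.coe_empty]; exact h.2)
      exact ⟨r, Subtype.ext hr⟩
    refine ⟨r, by rintro rfl; exact hh (by rw [← hr, map_zero]), fun p hp hrp => ?_⟩
    have hbij : Function.Bijective (algebraMap R (Algebra.adjoin R ((∅ : Finset T) : Set T))) := by
      refine ⟨fun a b hab => hinj (congrArg Subtype.val hab), fun y => ?_⟩
      obtain ⟨r, hr⟩ := Algebra.mem_bot.1 (show (y : T) ∈ (⊥ : Subalgebra R T) by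
        rw [← Algebra.adjoin_empty R T, ← Finset.coe_empty]; exact y.2)
      exact ⟨r, Subtype.ext hr⟩
    let e := RingEquiv.ofBijective _ hbij
    refine ⟨p.comap e.symm.toRingHom, inferInstance, ?_, ?_⟩
    · ext a
      show e.symm (e a) ∈ p ↔ _
      rw [RingEquiv.symm_apply_apply]
    · show e.symm h ∉ p
      rw [← hr]
      show e.symm (e r) ∉ p
      rwa [RingEquiv.symm_apply_apply]
  | insert x s _ ih =>
    intro h hh
    let A := Algebra.adjoin R (s : Set T)
    let T' := Algebra.adjoin R ((insert x s : Finset T) : Set T)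
    have hle : A ≤ T' := Algebra.adjoin_mono (by simp)
    let : Algebra A T' := (Subalgebra.inclusion hle).toAlgebra
    have hx : x ∈ T' := Algebra.subset_adjoin (by simp)
    let φ : A[X] →ₐ[A] T' := aeval ⟨x, hx⟩
    have hφ : Function.Surjective φ := by
      rintro ⟨t, ht⟩
      refine Algebra.adjoin_induction (p := fun t ht => ∃ Q, φ Q = (⟨t, ht⟩ : T')) ?_ ?_ ?_ ?_ ht
      · intro y hy
        rcases Finset.mem_insert.1 (Finset.mem_coe.1 hy) with rfl | hy
        · exact ⟨X, aeval_X _⟩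
        · exact ⟨C ⟨y, Algebra.subset_adjoin hy⟩, (aeval_C _ _).trans (Subtype.ext rfl)⟩
      · intro r
        exact ⟨C (algebraMap R A r), (aeval_C _ _).trans (Subtype.ext rfl)⟩
      · rintro a b _ _ ⟨Q, hQ⟩ ⟨Q', hQ'⟩
        exact ⟨Q + Q', by rw [map_add, hQ, hQ']; rfl⟩
      · rintro a b _ _ ⟨Q, hQ⟩ ⟨Q', hQ'⟩
        exact ⟨Q * Q', by rw [map_mul, hQ, hQ']; rfl⟩
    obtain ⟨d, hd, H⟩ := exists_lift_one (A := A) (T := T') (Subalgebra.inclusion_injective hle) φ hφ h hh
    obtain ⟨a, ha, H'⟩ := ih d hd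
    refine ⟨a, ha, fun p hp hap => ?_⟩
    obtain ⟨r, hr, hrc, hdr⟩ := H' p hp hap
    obtain ⟨q, hq, hqc, hhq⟩ := H r hr hdr
    refine ⟨q, hq, ?_, hhq⟩
    rw [← hrc, ← hqc, Ideal.comap_comap]
    congr 1

variable {R S : Type*} [CommRing R] [CommRing S] [Algebra R S]

theorem exists_basic_piece {E : Set (PrimeSpectrum S)} (hE : Topology.IsConstructible E) :
    ∃ D : Finset (S × Ideal S), E = ⋃ P ∈ D, (PrimeSpectrum.zeroLocus (P.2 : Set S) \ PrimeSpectrum.zeroLocus {P.1}) := by
  classical
  obtain ⟨D, rfl⟩ := PrimeSpectrum.exists_constructibleSetData_iff.2 hE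
  refine ⟨D.image fun C => (C.f, Ideal.span (Set.range C.g)), ?_⟩
  simp [PrimeSpectrum.ConstructibleSetData.toSet, PrimeSpectrum.BasicConstructibleSetData.toSet, Finset.set_biUnion_finset_image, PrimeSpectrum.zeroLocus_span]

/-- The image of a constructible set by a finite type map contains an open neighbourhood of each of
its points within the closure of that point. -/
theorem exists_open_subset_image [Algebra.FiniteType R S] {E : Set (PrimeSpectrum S)}
    (hE : Topology.IsConstructible E) {η : PrimeSpectrum S} (hη : η ∈ E) :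
    ∃ a : R, a ∉ (PrimeSpectrum.comap (algebraMap R S) η).asIdeal ∧
      ((PrimeSpectrum.basicOpen a : Set (PrimeSpectrum R)) ∩ closure {PrimeSpectrum.comap (algebraMap R S) η}) ⊆
        PrimeSpectrum.comap (algebraMap R S) '' E := by
  obtain ⟨D, rfl⟩ := exists_basic_piece hE
  obtain ⟨P, hP, hηI, hηf⟩ := Set.mem_iUnion₂.1 hη
  let ξ := η.asIdeal.under R
  have hinj : Function.Injective (algebraMap (R ⧸ ξ) (S ⧸ η.asIdeal)) := Ideal.algebraMap_quotient_injective
  have : Algebra.FiniteType (R ⧸ ξ) (S ⧸ η.asIdeal) := Algebra.FiniteType.of_restrictScalars_finiteType R _ _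
  have hg : Ideal.Quotient.mk η.asIdeal P.1 ≠ 0 := fun h0 => hηf (by
    rw [PrimeSpectrum.mem_zeroLocus, Set.singleton_subset_iff]; exact Ideal.Quotient.eq_zero_iff_mem.1 h0)
  obtain ⟨a, ha, H⟩ := exists_lift hinj _ hg
  obtain ⟨a, rfl⟩ := Ideal.Quotient.mk_surjective a
  refine ⟨a, fun h => ha (Ideal.Quotient.eq_zero_iff_mem.2 h), ?_⟩
  rintro p ⟨hpa, hpξ⟩
  rw [← specializes_iff_mem_closure, ← PrimeSpectrum.le_iff_specializes] at hpξ
  have hle : ξ ≤ p.asIdeal := hpξ
  have hker : RingHom.ker (Ideal.Quotient.mk ξ) ≤ p.asIdeal := by rwa [Ideal.mk_ker]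
  have hprime := Ideal.map_isPrime_of_surjective (f := Ideal.Quotient.mk ξ) Ideal.Quotient.mk_surjective hker
  obtain ⟨q, hq, hqc, hgq⟩ := H _ hprime (by
    intro hm
    apply hpa
    have : a ∈ (p.asIdeal.map (Ideal.Quotient.mk ξ)).comap (Ideal.Quotient.mk ξ) := hm
    rwa [Ideal.comap_map_of_surjective _ Ideal.Quotient.mk_surjective, ← RingHom.ker_eq_comap_bot, sup_eq_left.2 hker] at this)
  refine ⟨⟨q.comap (Ideal.Quotient.mk η.asIdeal), Ideal.IsPrime.comap _⟩, Set.mem_iUnion₂.2 ⟨P, hP, ?_, ?_⟩, ?_⟩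
  · rw [PrimeSpectrum.mem_zeroLocus]
    intro x hx
    show Ideal.Quotient.mk η.asIdeal x ∈ q
    rw [Ideal.Quotient.eq_zero_iff_mem.2 (hηI hx)]; exact q.zero_mem
  · rw [PrimeSpectrum.mem_zeroLocus, Set.singleton_subset_iff]
    exact hgq
  · apply PrimeSpectrum.ext
    have h1 := congrArg (Ideal.comap (Ideal.Quotient.mk ξ)) hqc
    rw [Ideal.comap_map_of_surjective _ Ideal.Quotient.mk_surjective, ← RingHom.ker_eq_comap_bot, sup_eq_left.2 hker] at h1
    rw [← h1]
    ext x
    exact Iff.rfl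

/-- A point in whose closure the image of a constructible set is dense belongs to that image. -/
theorem mem_image_of_dense {E : Set (PrimeSpectrum S)} (hE : Topology.IsConstructible E) (ξ : PrimeSpectrum R)
    (h : ξ ∈ closure (closure {ξ} ∩ PrimeSpectrum.comap (algebraMap R S) '' E)) :
    ξ ∈ PrimeSpectrum.comap (algebraMap R S) '' E := by
  obtain ⟨D, rfl⟩ := exists_basic_piece hE
  by_contra hξ
  have hdis : ∀ P ∈ D, ∃ s ∉ ξ.asIdeal, ∃ n : ℕ, algebraMap R S s * P.1 ^ n ∈ P.2 ⊔ ξ.asIdeal.map (algebraMap R S) := by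
    intro P hP
    by_contra hc
    push Not at hc
    let M : Submonoid S := ξ.asIdeal.primeCompl.map (algebraMap R S).toMonoidHom ⊔ Submonoid.powers P.1
    have hdj : Disjoint ((P.2 ⊔ ξ.asIdeal.map (algebraMap R S) : Ideal S) : Set S) (M : Set S) := by
      rw [Set.disjoint_right]
      intro m hm
      obtain ⟨y, hy, z, ⟨n, rfl⟩, rfl⟩ := Submonoid.mem_sup.1 hm
      obtain ⟨s, hs, rfl⟩ := hy
      exact hc s hs n
    obtain ⟨q, hq, hle, hdq⟩ := Ideal.exists_le_prime_disjoint _ M hdj
    refine hξ ⟨⟨q, hq⟩, Set.mem_iUnion₂.2 ⟨P, hP, ?_, ?_⟩, ?_⟩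
    · rw [PrimeSpectrum.mem_zeroLocus]; exact fun x hx => hle (Ideal.mem_sup_left hx)
    · rw [PrimeSpectrum.mem_zeroLocus, Set.singleton_subset_iff]
      exact fun hm => Set.disjoint_left.1 hdq hm (le_sup_right (a := ξ.asIdeal.primeCompl.map (algebraMap R S).toMonoidHom) (Submonoid.mem_powers P.1))
    · apply PrimeSpectrum.ext
      refine le_antisymm (fun x hx => ?_) (fun x hx => hle (Ideal.mem_sup_right (Ideal.mem_map_of_mem _ hx)))
      by_contra hxξ
      exact Set.disjoint_left.1 hdq hx (le_sup_left (b := Submonoid.powers P.1) (Submonoid.mem_map_of_mem _ hxξ))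
  choose! s hs n hn using hdis
  have hsξ : (∏ P ∈ D, s P) ∉ ξ.asIdeal := fun hm => by
    obtain ⟨P, hP, hsP⟩ := (Ideal.IsPrime.prod_mem_iff).1 hm
    exact hs P hP hsP
  obtain ⟨p, hpD, hpξ, y, hyE, rfl⟩ := mem_closure_iff.1 h _ (PrimeSpectrum.basicOpen (∏ P ∈ D, s P)).isOpen hsξ
  obtain ⟨P, hP, hyI, hyf⟩ := Set.mem_iUnion₂.1 hyE
  rw [← specializes_iff_mem_closure, ← PrimeSpectrum.le_iff_specializes] at hpξ
  have hm : algebraMap R S (s P) * P.1 ^ n P ∈ y.asIdeal := by
    refine (sup_le (fun x hx => hyI hx) (Ideal.map_le_iff_le_comap.2 hpξ)) (hn P hP)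
  rcases y.2.mem_or_mem hm with h1 | h1
  · exact hpD (Ideal.mem_of_dvd _ (Finset.dvd_prod_of_mem _ hP) h1)
  · exact hyf (by rw [PrimeSpectrum.mem_zeroLocus, Set.singleton_subset_iff]; exact y.2.mem_of_pow_mem _ h1)

theorem comap_mem_closedPoints [IsJacobsonRing R] [Algebra.FiniteType R S] {y : PrimeSpectrum S}
    (hy : IsClosed ({y} : Set (PrimeSpectrum S))) :
    IsClosed ({PrimeSpectrum.comap (algebraMap R S) y} : Set (PrimeSpectrum R)) := by
  rw [PrimeSpectrum.isClosed_singleton_iff_isMaximal] at hy ⊢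
  let : Field (S ⧸ y.asIdeal) := Ideal.Quotient.field _
  have := finite_of_finite_type_of_isJacobsonRing R (S ⧸ y.asIdeal)
  have h := Ideal.isMaximal_comap_of_isIntegral_of_isMaximal (R := R) (⊥ : Ideal (S ⧸ y.asIdeal))
  have e : (⊥ : Ideal (S ⧸ y.asIdeal)).comap (algebraMap R (S ⧸ y.asIdeal)) = y.asIdeal.comap (algebraMap R S) := by
    ext x
    rw [Ideal.mem_comap, Ideal.mem_comap, Ideal.mem_bot]
    exact Ideal.Quotient.eq_zero_iff_mem
  rwa [e] at h

theorem exists_isLocallyClosed_subset {X : Type*} [CommRing X] {E : Set (PrimeSpectrum X)}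
    (hE : Topology.IsConstructible E) {y : PrimeSpectrum X} (hy : y ∈ E) :
    ∃ Z ⊆ E, y ∈ Z ∧ IsLocallyClosed Z := by
  obtain ⟨D, rfl⟩ := exists_basic_piece hE
  obtain ⟨P, hP, hyP⟩ := Set.mem_iUnion₂.1 hy
  exact ⟨_, Set.subset_biUnion_of_mem (u := fun P : X × Ideal X => PrimeSpectrum.zeroLocus (P.2 : Set X) \ PrimeSpectrum.zeroLocus {P.1}) hP, hyP,
    (PrimeSpectrum.isClosed_zeroLocus _).isLocallyClosed.inter (PrimeSpectrum.isClosed_zeroLocus _).isOpen_compl.isLocallyClosed⟩

/-- In a Jacobson spectrum the points of a constructible set which are closed in it are closed. -/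
theorem setOf_closed_in_eq [IsJacobsonRing S] {E : Set (PrimeSpectrum S)} (hE : Topology.IsConstructible E) :
    {y | y ∈ E ∧ closure {y} ∩ E = {y}} = closedPoints (PrimeSpectrum S) ∩ E := by
  ext y
  constructor
  · rintro ⟨hy, heq⟩
    refine ⟨?_, hy⟩
    obtain ⟨Z, hZE, hyZ, hZ⟩ := exists_isLocallyClosed_subset hE hy
    obtain ⟨z, ⟨hz1, hz2⟩, hz⟩ := nonempty_inter_closedPoints (Z := closure {y} ∩ Z)
      ⟨y, subset_closure rfl, hyZ⟩ (isClosed_closure.isLocallyClosed.inter hZ)
    have : z ∈ ({y} : Set _) := heq ▸ ⟨hz1, hZE hz2⟩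
    exact Set.mem_singleton_iff.1 this ▸ hz
  · rintro ⟨hy, hyE⟩
    refine ⟨hyE, ?_⟩
    rw [(mem_closedPoints_iff.1 hy).closure_eq, Set.inter_eq_left, Set.singleton_subset_iff]
    exact hyE

/-- The image of the closed points of a constructible set is the set of closed points of the image. -/
theorem image_closedPoints [IsJacobsonRing R] [IsJacobsonRing S] [Algebra.FiniteType R S]
    {E : Set (PrimeSpectrum S)} (hE : Topology.IsConstructible E) :
    PrimeSpectrum.comap (algebraMap R S) '' (closedPoints (PrimeSpectrum S) ∩ E) =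
      closedPoints (PrimeSpectrum R) ∩ PrimeSpectrum.comap (algebraMap R S) '' E := by
  refine subset_antisymm ?_ ?_
  · rintro _ ⟨y, ⟨hy, hyE⟩, rfl⟩
    exact ⟨comap_mem_closedPoints hy, y, hyE, rfl⟩
  · rintro _ ⟨hx, y, hyE, rfl⟩
    obtain ⟨Z, hZE, hyZ, hZ⟩ := exists_isLocallyClosed_subset hE hyE
    obtain ⟨z, ⟨hz1, hz2⟩, hz⟩ := nonempty_inter_closedPoints
      (Z := PrimeSpectrum.comap (algebraMap R S) ⁻¹' {PrimeSpectrum.comap (algebraMap R S) y} ∩ Z)
      ⟨y, rfl, hyZ⟩ (((mem_closedPoints_iff.1 hx).preimage (PrimeSpectrum.continuous_comap _)).isLocallyClosed.inter hZ)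
    exact ⟨z, ⟨hz, hZE hz2⟩, hz1⟩

end CAlgA
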