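import Mathlib.RingTheory.Filtration
import Mathlib.RingTheory.Flat.Tensor
import Mathlib.RingTheory.Flat.Stability
import Mathlib.RingTheory.AdicCompletion.Basic
import Mathlib.LinearAlgebra.TensorProduct.Pi
import Mathlib.LinearAlgebra.TensorProduct.RightExactness
import Mathlib.RingTheory.TensorProduct.Basic
import Mathlib.RingTheory.Finiteness.Cardinality

/-!
# Complete modules which are flat modulo all powers of the ideal are flat
-/

set_option autoImplicit false
universe u

open TensorProduct Function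

namespace Groth.Agent.CAlgA.ComplFlatLimit

variable {A : Type u} [CommRing A]

/-- A linear map sends `K • ⊤` into `K • ⊤`. -/
lemma map_mem_smul_top {P Q : Type u} [AddCommGroup P] [Module A P] [AddCommGroup Q] [Module A Q]
    (K : Ideal A) (f : P →ₗ[A] Q) {x : P} (hx : x ∈ K • (⊤ : Submodule A P)) :
    f x ∈ K • (⊤ : Submodule A Q) :=
  Submodule.smul_top_le_comap_smul_top K f hx

/-- `X ⊗ P → X ⊗ (P/KP)` is injective if `K` kills `X`. -/
lemma lTensor_mkQ_injective (K : Ideal A) (X : Type u) [AddCommGroup X] [Module A X]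
    (hX : K • (⊤ : Submodule A X) = ⊥) (P : Type u) [AddCommGroup P] [Module A P] :
    Injective ((K • (⊤ : Submodule A P)).mkQ.lTensor X) := by
  rw [injective_iff_map_eq_zero]
  intro x hx
  obtain ⟨y, rfl⟩ := (lTensor_exact X (LinearMap.exact_subtype_mkQ _) (Submodule.mkQ_surjective _) x).1 hx
  clear hx
  induction y with
  | zero => simp
  | add a b ha hb => rw [map_add, ha, hb, add_zero]
  | tmul w p =>
    rw [LinearMap.lTensor_tmul, Submodule.subtype_apply]
    refine Submodule.smul_induction_on (p := fun z => w ⊗ₜ[A] z = 0) p.2 (fun r hr z _ => ?_) ?_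
    · have : r • w = 0 := (Submodule.mem_bot A).1 (hX ▸ Submodule.smul_mem_smul hr trivial)
      rw [tmul_smul, smul_tmul', this, zero_tmul]
    · intro z z' hz hz'
      rw [tmul_add, hz, hz', add_zero]

/-- A map which is bijective modulo `K` stays so after tensoring with a module killed by `K`. -/
lemma lTensor_bijective_of_mod (K : Ideal A) (X : Type u) [AddCommGroup X] [Module A X]
    (hX : K • (⊤ : Submodule A X) = ⊥) {P N : Type u} [AddCommGroup P] [Module A P] [AddCommGroup N] [Module A N]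
    (α : P →ₗ[A] N) (hsurj : ∀ x : N, ∃ p, x - α p ∈ K • (⊤ : Submodule A N))
    (hinj : ∀ p, α p ∈ K • (⊤ : Submodule A N) → p ∈ K • (⊤ : Submodule A P)) :
    Bijective (α.lTensor X) := by
  let q := Submodule.mapQ _ _ α (Submodule.smul_top_le_comap_smul_top K α)
  have hq : Bijective q := by
    constructor
    · rw [injective_iff_map_eq_zero]
      intro z hz
      obtain ⟨p, rfl⟩ := Submodule.Quotient.mk_surjective _ z
      exact (Submodule.Quotient.mk_eq_zero _).2 (hinj p ((Submodule.Quotient.mk_eq_zero _).1 hz))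
    · intro z
      obtain ⟨x, rfl⟩ := Submodule.Quotient.mk_surjective _ z
      obtain ⟨p, hp⟩ := hsurj x
      exact ⟨Submodule.Quotient.mk p, ((Submodule.Quotient.eq _).2 hp).symm⟩
  have hcomp : (K • (⊤ : Submodule A N)).mkQ ∘ₗ α = q ∘ₗ (K • (⊤ : Submodule A P)).mkQ := rfl
  have h : ∀ z, (K • (⊤ : Submodule A N)).mkQ.lTensor X (α.lTensor X z) =
      q.lTensor X ((K • (⊤ : Submodule A P)).mkQ.lTensor X z) := fun z => by
    rw [← LinearMap.lTensor_comp_apply, hcomp, LinearMap.lTensor_comp_apply]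
  let e := (LinearEquiv.ofBijective q hq).lTensor X
  constructor
  · intro a b hab
    apply lTensor_mkQ_injective K X hX P
    apply e.injective
    show q.lTensor X _ = q.lTensor X _
    rw [← h, ← h, hab]
  · intro y
    obtain ⟨w, hw⟩ := e.surjective ((K • (⊤ : Submodule A N)).mkQ.lTensor X y)
    obtain ⟨z, rfl⟩ := LinearMap.lTensor_surjective X (Submodule.mkQ_surjective (K • (⊤ : Submodule A P))) w
    exact ⟨z, lTensor_mkQ_injective K X hX N ((h z).trans hw)⟩

variable [IsNoetherianRing A] (I : Ideal A) (N : Type u) [AddCommGroup N] [Module A N]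

/-- `· ⊗ N` preserves injections into modules killed by a power of `I`. -/
def FlatModPow : Prop :=
  ∀ (n : ℕ) (X Y : Type u) [AddCommGroup X] [Module A X] [AddCommGroup Y] [Module A Y]
    (a : X →ₗ[A] Y), Injective a → I ^ n • (⊤ : Submodule A Y) = ⊥ → Injective (a.rTensor N)

variable {I N}

/-- Approximate kernels, by the Artin–Rees lemma. -/
lemma FlatModPow.approx (hN : FlatModPow I N) {F G : Type u} [AddCommGroup F] [Module A F]
    [AddCommGroup G] [Module A G] [Module.Finite A G] (g : F →ₗ[A] G) :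
    ∃ c : ℕ, ∀ (m : ℕ) (y : F ⊗[A] N), g.rTensor N y ∈ I ^ (m + c) • (⊤ : Submodule A (G ⊗[A] N)) →
      y ∈ LinearMap.range ((LinearMap.ker g).subtype.rTensor N) ⊔ I ^ m • (⊤ : Submodule A (F ⊗[A] N)) := by
  obtain ⟨c, hc⟩ := I.exists_pow_inf_eq_pow_smul (LinearMap.range g)
  refine ⟨c, fun m y hy => ?_⟩
  let S : Submodule A G := I ^ (m + c) • ⊤
  let P : Submodule A F := LinearMap.ker (S.mkQ ∘ₗ g)
  let gbar : (F ⧸ P) →ₗ[A] G ⧸ S := P.liftQ (S.mkQ ∘ₗ g) le_rfl
  have hkill : I ^ (m + c) • (⊤ : Submodule A (G ⧸ S)) = ⊥ := by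
    rw [← Submodule.range_mkQ, ← Submodule.map_top, ← Submodule.map_smul'', Submodule.mkQ_map_self]
  have hinj := hN (m + c) _ _ gbar (LinearMap.ker_eq_bot.1 (Submodule.ker_liftQ_eq_bot _ _ le_rfl le_rfl)) hkill
  have hkill' : I ^ (m + c) • (⊤ : Submodule A ((G ⧸ S) ⊗[A] N)) = ⊥ := by
    rw [eq_bot_iff, Submodule.smul_le]
    intro r hr z hz
    clear hz
    rw [Submodule.mem_bot]
    induction z with
    | zero => exact smul_zero _
    | add a b ha hb => rw [smul_add, ha, hb, add_zero]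
    | tmul w n =>
      rw [smul_tmul', show r • w = 0 from (Submodule.mem_bot A).1 (hkill ▸ Submodule.smul_mem_smul hr trivial),
        zero_tmul]
  have h0 : S.mkQ.rTensor N (g.rTensor N y) = 0 := by
    have := map_mem_smul_top _ (S.mkQ.rTensor N) hy
    rwa [hkill', Submodule.mem_bot] at this
  have h1 : P.mkQ.rTensor N y = 0 := by
    apply hinj
    rw [map_zero, ← LinearMap.rTensor_comp_apply, show gbar ∘ₗ P.mkQ = S.mkQ ∘ₗ g from rfl,
      LinearMap.rTensor_comp_apply, h0]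
  obtain ⟨z, rfl⟩ := (rTensor_exact N (LinearMap.exact_subtype_mkQ P) P.mkQ_surjective y).1 h1
  have hP : P ≤ LinearMap.ker g ⊔ I ^ m • ⊤ := by
    intro v hv
    have hv' : g v ∈ I ^ (m + c) • (⊤ : Submodule A G) ⊓ LinearMap.range g :=
      ⟨(Submodule.Quotient.mk_eq_zero S).1 hv, LinearMap.mem_range_self g v⟩
    rw [hc (m + c) (Nat.le_add_left _ _), Nat.add_sub_cancel] at hv'
    have hv'' : g v ∈ (I ^ m • (⊤ : Submodule A F)).map g := by
      rw [Submodule.map_smul'', Submodule.map_top]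
      exact Submodule.smul_mono le_rfl inf_le_right hv'
    obtain ⟨w, hw, hwv⟩ := hv''
    exact Submodule.mem_sup.2 ⟨v - w, by rw [LinearMap.mem_ker, map_sub, hwv, sub_self], w, hw,
      sub_add_cancel v w⟩
  clear h0 h1 hy
  induction z with
  | zero => simp
  | add a b ha hb => rw [map_add]; exact add_mem ha hb
  | tmul v n =>
    obtain ⟨k, hk, w, hw, hvw⟩ := Submodule.mem_sup.1 (hP v.2)
    rw [LinearMap.rTensor_tmul, Submodule.subtype_apply, ← hvw, add_tmul]
    exact Submodule.mem_sup.2 ⟨_, ⟨(⟨k, hk⟩ : LinearMap.ker g) ⊗ₜ n, rfl⟩, _,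
      map_mem_smul_top _ ((TensorProduct.mk A F N).flip n) hw, rfl⟩

omit [IsNoetherianRing A] in
lemma mem_smul_top_pi_iff (K : Ideal A) {a : ℕ} (x : (Fin a → A) ⊗[A] N)
    (e : (Fin a → A) ⊗[A] N ≃ₗ[A] (Fin a → N)) :
    x ∈ K • (⊤ : Submodule A ((Fin a → A) ⊗[A] N)) ↔ ∀ i, e x i ∈ K • (⊤ : Submodule A N) := by
  refine ⟨fun hx i => map_mem_smul_top K ((LinearMap.proj i) ∘ₗ e.toLinearMap) hx, fun h => ?_⟩
  rw [← e.symm_apply_apply x, ← Finset.univ_sum_single (e x), map_sum]
  exact Submodule.sum_mem _ fun i _ =>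
    map_mem_smul_top K (e.symm.toLinearMap ∘ₗ LinearMap.single A (fun _ => N) i) (h i)

/-- The image of a map of finite free modules, tensored with a complete `N`, is closed. -/
lemma FlatModPow.mem_range (hN : FlatModPow I N) [IsAdicComplete I N] {a b : ℕ}
    (g : (Fin a → A) →ₗ[A] (Fin b → A)) (x : (Fin b → A) ⊗[A] N)
    (hx : ∀ m : ℕ, ∃ y, x - g.rTensor N y ∈ I ^ m • (⊤ : Submodule A ((Fin b → A) ⊗[A] N))) :
    x ∈ LinearMap.range (g.rTensor N) := by
  obtain ⟨c, hc⟩ := hN.approx g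
  let φ := g.rTensor N
  have hker : ∀ w ∈ LinearMap.range ((LinearMap.ker g).subtype.rTensor N), φ w = 0 := by
    rintro _ ⟨w, rfl⟩
    rw [← LinearMap.rTensor_comp_apply, LinearMap.comp_ker_subtype, LinearMap.rTensor_zero, LinearMap.zero_apply]
  have step : ∀ (m : ℕ) (z : (Fin a → A) ⊗[A] N), x - φ z ∈ I ^ (m + c) • (⊤ : Submodule A ((Fin b → A) ⊗[A] N)) →
      ∃ z', x - φ z' ∈ I ^ (m + 1 + c) • (⊤ : Submodule A ((Fin b → A) ⊗[A] N)) ∧
        z' - z ∈ I ^ m • (⊤ : Submodule A ((Fin a → A) ⊗[A] N)) := by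
    intro m z hz
    obtain ⟨y, hy⟩ := hx (m + 1 + c)
    have hle : I ^ (m + 1 + c) • (⊤ : Submodule A ((Fin b → A) ⊗[A] N)) ≤ I ^ (m + c) • ⊤ :=
      Submodule.smul_mono_left (Ideal.pow_le_pow_right (by omega))
    have hd : φ (y - z) ∈ I ^ (m + c) • (⊤ : Submodule A ((Fin b → A) ⊗[A] N)) := by
      rw [map_sub, show φ y - φ z = (x - φ z) - (x - φ y) by abel]
      exact sub_mem hz (hle hy)
    obtain ⟨w, hw, d, hd', hwd⟩ := Submodule.mem_sup.1 (hc m _ hd)
    refine ⟨z + d, ?_, by rwa [add_sub_cancel_left]⟩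
    have : φ (z + d) = φ y := by
      rw [map_add, ← sub_eq_zero, show φ z + φ d - φ y = φ d - φ (y - z) by rw [map_sub]; abel,
        ← hwd, map_add, hker w hw]
      abel
    rwa [this]
  obtain ⟨y₀, hy₀⟩ := hx (0 + c)
  let zs : ∀ m : ℕ, {z // x - φ z ∈ I ^ (m + c) • (⊤ : Submodule A ((Fin b → A) ⊗[A] N))} := fun m =>
    Nat.rec ⟨y₀, hy₀⟩ (fun m z => ⟨(step m z.1 z.2).choose, (step m z.1 z.2).choose_spec.1⟩) m
  have hdiff : ∀ m, (zs (m + 1)).1 - (zs m).1 ∈ I ^ m • (⊤ : Submodule A ((Fin a → A) ⊗[A] N)) := fun m =>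
    (step m (zs m).1 (zs m).2).choose_spec.2
  let ea : (Fin a → A) ⊗[A] N ≃ₗ[A] (Fin a → N) :=
    (TensorProduct.comm A _ _).trans (TensorProduct.piScalarRight A A N (Fin a))
  let eb : (Fin b → A) ⊗[A] N ≃ₗ[A] (Fin b → N) :=
    (TensorProduct.comm A _ _).trans (TensorProduct.piScalarRight A A N (Fin b))
  have hcau : ∀ {m n : ℕ}, m ≤ n → (zs n).1 - (zs m).1 ∈ I ^ m • (⊤ : Submodule A ((Fin a → A) ⊗[A] N)) := by
    intro m n hmn
    induction n, hmn using Nat.le_induction with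
    | base => simp
    | succ n hmn ih =>
      rw [← sub_add_sub_cancel _ (zs n).1 _]
      exact add_mem (Submodule.smul_mono_left (Ideal.pow_le_pow_right hmn) (hdiff n)) ih
  have hlim : ∀ i : Fin a, ∃ L : N, ∀ m, ea (zs m).1 i ≡ L [SMOD (I ^ m • ⊤ : Submodule A N)] := by
    intro i
    refine IsPrecomplete.prec inferInstance fun {m n} hmn => ?_
    rw [SModEq.sub_mem, ← neg_sub]
    refine neg_mem ?_
    have := (mem_smul_top_pi_iff _ _ ea).1 (hcau hmn) i
    rwa [map_sub] at this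
  choose L hL using hlim
  refine ⟨ea.symm L, ?_⟩
  have hm : ∀ m, x - φ (ea.symm L) ∈ I ^ m • (⊤ : Submodule A ((Fin b → A) ⊗[A] N)) := by
    intro m
    rw [← sub_add_sub_cancel x (φ (zs m).1), ← map_sub]
    refine add_mem (Submodule.smul_mono_left (Ideal.pow_le_pow_right (Nat.le_add_right _ _)) (zs m).2)
      (map_mem_smul_top _ φ ((mem_smul_top_pi_iff _ _ ea).2 fun i => ?_))
    rw [map_sub, LinearEquiv.apply_symm_apply, Pi.sub_apply]
    exact SModEq.sub_mem.1 (hL i m)
  have : eb (x - φ (ea.symm L)) = 0 := by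
    funext i
    refine IsHausdorff.haus (inferInstance : IsHausdorff I N) _ fun m => ?_
    rw [SModEq.zero]
    exact (mem_smul_top_pi_iff _ _ eb).1 (hm m) i
  exact (sub_eq_zero.1 (eb.injective (this.trans (map_zero eb).symm))).symm

/-- A complete module flat modulo all powers of `I` is flat. -/
theorem FlatModPow.flat (hN : FlatModPow I N) [IsAdicComplete I N] : Module.Flat A N := by
  rw [Module.Flat.iff_rTensor_injective']
  intro J
  rw [injective_iff_map_eq_zero]
  intro x hx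
  obtain ⟨b, k, hk⟩ := Module.Finite.exists_fin' A J
  obtain ⟨x, rfl⟩ := LinearMap.rTensor_surjective N hk x
  obtain ⟨a, k', hk'⟩ := Module.Finite.exists_fin' A (LinearMap.ker (J.subtype ∘ₗ k))
  let g := (LinearMap.ker (J.subtype ∘ₗ k)).subtype ∘ₗ k'
  obtain ⟨c, hc⟩ := hN.approx (J.subtype ∘ₗ k)
  rw [← LinearMap.rTensor_comp_apply] at hx
  have hmem : x ∈ LinearMap.range (g.rTensor N) := by
    refine hN.mem_range g x fun m => ?_
    obtain ⟨w, ⟨w', rfl⟩, d, hd, hwd⟩ := Submodule.mem_sup.1 (hc m x (by rw [hx]; exact zero_mem _))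
    obtain ⟨y, rfl⟩ := LinearMap.rTensor_surjective N hk' w'
    refine ⟨y, ?_⟩
    rw [LinearMap.rTensor_comp_apply, ← hwd, add_sub_cancel_left]
    exact hd
  obtain ⟨y, rfl⟩ := hmem
  have h0 : k ∘ₗ g = 0 := LinearMap.ext fun v => Subtype.ext (k' v).2
  rw [← LinearMap.rTensor_comp_apply, h0, LinearMap.rTensor_zero, LinearMap.zero_apply]

end Groth.Agent.CAlgA.ComplFlatLimit
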