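import Groth.Agent.RegLoc.Homological
import Mathlib.Algebra.Homology.DerivedCategory.Ext.EnoughProjectives
import Mathlib.Algebra.Category.ModuleCat.Ext.HasExt
import Mathlib.RingTheory.LocalRing.Module

/-! Projective dimension detected by `Ext(·, R)`. -/

set_option autoImplicit false

open CategoryTheory Abelian IsLocalRing
open Groth.Agent.RegLoc Groth.Agent.RegLoc.PD

universe u

namespace CAlgA.ExtSelf

variable {R : Type u} [CommRing R] [IsLocalRing R] [IsNoetherianRing R]

theorem nontrivial_ext_zero (M : Type u) [AddCommGroup M] [Module R M] [Module.Finite R M]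
    [Module.Projective R M] [Nontrivial M] :
    Nontrivial (Ext (ModuleCat.of R M) (ModuleCat.of R R) 0) := by
  have : Module.Free R M := Module.free_of_flat_of_isLocalRing
  let b := Module.Free.chooseBasis R M
  obtain ⟨i⟩ := b.index_nonempty
  refine nontrivial_of_ne (Ext.mk₀ (ModuleCat.ofHom (b.coord i))) 0 fun h => ?_
  rw [Ext.mk₀_eq_zero_iff] at h
  have := congrArg (fun g : ModuleCat.of R M ⟶ ModuleCat.of R R => g (b i)) h
  simp at this

theorem nontrivial_ext_succ (n : ℕ) : ∀ (M : Type u) [AddCommGroup M] [Module R M] [Module.Finite R M],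
    HasProjectiveDimensionLE (ModuleCat.of R M) (n + 1) → ¬ HasProjectiveDimensionLE (ModuleCat.of R M) n →
    Nontrivial (Ext (ModuleCat.of R M) (ModuleCat.of R R) (n + 1)) := by
  induction n with
  | zero =>
    intro M _ _ _ h1 h0
    obtain ⟨r, f, hf, hmin⟩ := Homological.exists_minimal_cover (R := R) M
    rw [pd_shift f hf, pd_zero_iff] at h1
    have : Module.Finite R (LinearMap.ker f) := Module.Finite.iff_fg.2 (IsNoetherian.noetherian _)
    have : Module.Free R (LinearMap.ker f) := Module.free_of_flat_of_isLocalRing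
    have hK : Nontrivial (LinearMap.ker f) := by
      rw [← not_subsingleton_iff_nontrivial]
      intro hs
      apply h0
      rw [pd_zero_iff]
      have : Function.Bijective f := ⟨LinearMap.ker_eq_bot.1 (Submodule.eq_bot_of_subsingleton), hf⟩
      exact Module.Projective.of_equiv (LinearEquiv.ofBijective f this)
    let b := Module.Free.chooseBasis R (LinearMap.ker f)
    obtain ⟨i⟩ := b.index_nonempty
    rw [← not_subsingleton_iff_nontrivial]
    intro hsub
    let S := f.shortComplexKer
    obtain ⟨x₂, hx₂⟩ := Ext.contravariant_sequence_exact₁ (LinearMap.shortExact_shortComplexKer hf)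
      (ModuleCat.of R R) (Ext.mk₀ (ModuleCat.ofHom (b.coord i) : S.X₁ ⟶ ModuleCat.of R R)) (n₁ := 1) rfl (Subsingleton.elim _ _)
    obtain ⟨ψ, rfl⟩ : ∃ ψ, Ext.mk₀ ψ = x₂ := ⟨Ext.homEquiv₀ x₂, Ext.mk₀_homEquiv₀_apply x₂⟩
    rw [Ext.mk₀_comp_mk₀] at hx₂
    have h := congrArg (fun g => (g : S.X₁ ⟶ ModuleCat.of R R) (b i)) (Ext.homEquiv₀.symm.injective hx₂)
    have hm : ψ.hom ((b i : LinearMap.ker f) : Fin r → R) ∈ maximalIdeal R := by
      classical
      rw [← (Pi.basisFun R (Fin r)).sum_repr ((b i : LinearMap.ker f) : Fin r → R), map_sum]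
      refine sum_mem fun j _ => ?_
      rw [map_smul, smul_eq_mul, Pi.basisFun_repr]
      exact Ideal.mul_mem_right _ _ (hmin _ (b i).2 j)
    have hone : ψ.hom ((b i : LinearMap.ker f) : Fin r → R) = 1 := by simpa [S] using h
    rw [hone] at hm
    exact (IsLocalRing.maximalIdeal.isMaximal R).ne_top ((Ideal.eq_top_iff_one _).2 hm)
  | succ n ih =>
    intro M _ _ _ h1 h0
    obtain ⟨r, f, hf, -⟩ := Homological.exists_minimal_cover (R := R) M
    rw [pd_shift f hf] at h1 h0
    have : Module.Finite R (LinearMap.ker f) := Module.Finite.iff_fg.2 (IsNoetherian.noetherian _)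
    have hnt := ih _ h1 h0
    have : Projective (ModuleCat.of R (Fin r → R)) := (IsProjective.iff_projective _).mp inferInstance
    rw [← not_subsingleton_iff_nontrivial] at hnt ⊢
    intro hsub
    apply hnt
    refine subsingleton_of_forall_eq 0 fun x => ?_
    obtain ⟨x₂, hx₂⟩ := Ext.contravariant_sequence_exact₁ (LinearMap.shortExact_shortComplexKer hf)
      (ModuleCat.of R R) x (n₁ := n + 1 + 1) (by omega) (Subsingleton.elim _ _)
    rw [← hx₂, Ext.eq_zero_of_projective x₂, Ext.comp_zero]

omit [IsLocalRing R] [IsNoetherianRing R] in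
theorem subsingleton_ext {M : Type u} [AddCommGroup M] [Module R M] {d j : ℕ}
    (h : HasProjectiveDimensionLE (ModuleCat.of R M) d) (hj : d < j) :
    Subsingleton (Ext (ModuleCat.of R M) (ModuleCat.of R R) j) :=
  subsingleton_of_forall_eq 0 fun e => e.eq_zero_of_hasProjectiveDimensionLT (d + 1) hj

theorem le_of_ext_subsingleton {M : Type u} [AddCommGroup M] [Module R M] [Module.Finite R M] {e d : ℕ}
    (he : HasProjectiveDimensionLE (ModuleCat.of R M) e)
    (h : ∀ j, d < j → j ≤ e → Subsingleton (Ext (ModuleCat.of R M) (ModuleCat.of R R) j)) :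
    HasProjectiveDimensionLE (ModuleCat.of R M) d := by
  induction e with
  | zero => exact pd_mono M (Nat.zero_le d) he
  | succ e ih =>
    rcases Nat.lt_or_ge d (e + 1) with hd | hd
    · refine ih ?_ fun j hj hje => h j hj (by omega)
      by_contra hn
      exact not_subsingleton_iff_nontrivial.2 (nontrivial_ext_succ e M he hn) (h (e + 1) hd le_rfl)
    · exact pd_mono M hd he

end CAlgA.ExtSelf
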