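import Mathlib

set_option autoImplicit false
set_option backward.isDefEq.respectTransparency false
universe u

open TensorProduct

namespace Groth.Agent.CAlgA.FlatCrit

variable {A : Type u} [CommRing A] {p : A} {M : Type u} [AddCommGroup M] [Module A M]

/-- If `M/pM` is flat over `A/p`, then tensoring with `M` preserves injections of `A/p`-modules. -/
lemma rTensor_injective_of_quot
    (h1 : Module.Flat (A ⧸ Ideal.span {p}) (M ⧸ (Ideal.span {p} • (⊤ : Submodule A M))))
    {P Q : Type u} [AddCommGroup P] [Module A P] [Module (A ⧸ Ideal.span {p}) P]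
    [IsScalarTower A (A ⧸ Ideal.span {p}) P]
    [AddCommGroup Q] [Module A Q] [Module (A ⧸ Ideal.span {p}) Q]
    [IsScalarTower A (A ⧸ Ideal.span {p}) Q]
    (f : P →ₗ[A ⧸ Ideal.span {p}] Q) (hf : Function.Injective f) :
    Function.Injective ((f.restrictScalars A).rTensor M) := by
  have e : ((A ⧸ Ideal.span {p}) ⊗[A] M) ≃ₗ[A ⧸ Ideal.span {p}]
      (M ⧸ (Ideal.span {p} • (⊤ : Submodule A M))) :=
    (quotTensorEquivQuotSMul M (Ideal.span {p})).extendScalarsOfSurjective Ideal.Quotient.mk_surjective
  have hflat : Module.Flat (A ⧸ Ideal.span {p}) ((A ⧸ Ideal.span {p}) ⊗[A] M) := Module.Flat.of_linearEquiv e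
  let S := A ⧸ Ideal.span {p}
  let cP := AlgebraTensorModule.cancelBaseChange A S S P M
  let cQ := AlgebraTensorModule.cancelBaseChange A S S Q M
  have key : ∀ z, (f.restrictScalars A).rTensor M (cP z) = cQ (f.rTensor (S ⊗[A] M) z) := by
    intro z
    induction z using TensorProduct.induction_on with
    | zero => simp
    | add a b ha hb => simp [ha, hb]
    | tmul a w =>
      induction w using TensorProduct.induction_on with
      | zero => simp
      | add a' b' ha hb => simp [tmul_add, ha, hb]
      | tmul s m => simp [cP, cQ, S]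
  intro x y hxy
  obtain ⟨a, rfl⟩ := cP.surjective x
  obtain ⟨b, rfl⟩ := cP.surjective y
  rw [key, key] at hxy
  rw [Module.Flat.rTensor_preserves_injective_linearMap f hf (cQ.injective hxy)]

variable (A M) in
/-- `Tor₁(X, M) = 0`, phrased with free presentations. -/
def TorVanish (X : Type u) [AddCommGroup X] [Module A X] : Prop :=
  ∀ (F : Type u) [AddCommGroup F] [Module A F] [Module.Free A F] (q : F →ₗ[A] X), Function.Surjective q →
    Function.Injective (q.ker.subtype.rTensor M)

lemma TorVanish.injective_aux {X N F : Type u} [AddCommGroup X] [Module A X] [AddCommGroup N] [Module A N]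
    [AddCommGroup F] [Module A F] [Module.Free A F]
    (hX : TorVanish A M X) (g : N →ₗ[A] X) (hg : Function.Surjective g) (π : F →ₗ[A] N)
    (hπ : Function.Surjective π) :
    Function.Injective (g.ker.subtype.rTensor M) := by
  have hinj := hX F (g ∘ₗ π) (hg.comp hπ)
  let r : ↥((g ∘ₗ π).ker) →ₗ[A] g.ker := π.restrict (fun v hv => hv)
  have hr : Function.Surjective r := fun k => by
    obtain ⟨v, hv⟩ := hπ k.1
    exact ⟨⟨v, by simp [hv]⟩, Subtype.ext hv⟩
  let i : π.ker →ₗ[A] ↥((g ∘ₗ π).ker) := Submodule.inclusion (LinearMap.ker_le_ker_comp π g)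
  refine (injective_iff_map_eq_zero _).2 fun x hx => ?_
  obtain ⟨x', rfl⟩ := r.rTensor_surjective M hr x
  have hx' : π.rTensor M ((g ∘ₗ π).ker.subtype.rTensor M x') = 0 := by
    rw [← LinearMap.rTensor_comp_apply] at hx ⊢
    exact hx
  obtain ⟨l, hl⟩ := (rTensor_exact M (LinearMap.exact_subtype_ker_map π) hπ _).1 hx'
  have : x' = i.rTensor M l := hinj (by rw [← hl, ← LinearMap.rTensor_comp_apply]; rfl)
  rw [this, ← LinearMap.rTensor_comp_apply]
  have h0 : r ∘ₗ i = 0 := LinearMap.ext fun v => Subtype.ext v.2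
  simp [h0]

lemma TorVanish.injective {X N : Type u} [AddCommGroup X] [Module A X] [AddCommGroup N] [Module A N]
    (hX : TorVanish A M X) (g : N →ₗ[A] X) (hg : Function.Surjective g) :
    Function.Injective (g.ker.subtype.rTensor M) :=
  hX.injective_aux g hg (Finsupp.linearCombination A id : (N →₀ A) →ₗ[A] N)
    fun n => ⟨Finsupp.single n 1, by simp⟩

section
variable (hM : IsSMulRegular M p)
  (h1 : Module.Flat (A ⧸ Ideal.span {p}) (M ⧸ (Ideal.span {p} • (⊤ : Submodule A M))))
include hM h1

lemma torVanish_of_killed {X : Type u} [AddCommGroup X] [Module A X] (hX : ∀ x : X, p • x = 0) :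
    TorVanish A M X := by
  classical
  intro F _ _ _ q hq
  refine (injective_iff_map_eq_zero _).2 fun x hx => ?_
  let I : Submodule A F := LinearMap.range (LinearMap.lsmul A F p)
  have hIk : I ≤ q.ker := by
    rintro _ ⟨v, rfl⟩
    simp [hX]
  -- the A/p-modules `K/pF → F/pF`
  have hT : ∀ (v : F), ∀ a ∈ Ideal.span {p}, a • v ∈ I := by
    intro v a ha
    obtain ⟨b, rfl⟩ := Ideal.mem_span_singleton'.1 ha
    exact ⟨b • v, by simp [smul_smul, mul_comm]⟩
  have hTQ : Module.IsTorsionBySet A (F ⧸ I) (Ideal.span {p} : Set A) := by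
    intro z a
    obtain ⟨v, rfl⟩ := Submodule.Quotient.mk_surjective _ z
    rw [← Submodule.Quotient.mk_smul, Submodule.Quotient.mk_eq_zero]
    exact hT v a.1 a.2
  let K' : Submodule A (F ⧸ I) := q.ker.map I.mkQ
  have hTP : Module.IsTorsionBySet A K' (Ideal.span {p} : Set A) := fun z a => Subtype.ext (hTQ (x := z.1) (a := a))
  let _ : Module (A ⧸ Ideal.span {p}) (F ⧸ I) := hTQ.module
  have : IsScalarTower A (A ⧸ Ideal.span {p}) (F ⧸ I) := hTQ.isScalarTower
  let _ : Module (A ⧸ Ideal.span {p}) K' := hTP.module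
  have : IsScalarTower A (A ⧸ Ideal.span {p}) K' := hTP.isScalarTower
  let f : K' →ₗ[A ⧸ Ideal.span {p}] (F ⧸ I) :=
    K'.subtype.extendScalarsOfSurjective Ideal.Quotient.mk_surjective
  have hfinj := rTensor_injective_of_quot h1 f Subtype.val_injective
  let t : q.ker →ₗ[A] K' := I.mkQ.restrict fun v hv => Submodule.mem_map_of_mem hv
  have ht : Function.Surjective t := by
    rintro ⟨_, v, hv, rfl⟩
    exact ⟨⟨v, hv⟩, rfl⟩
  let g : F →ₗ[A] q.ker := (LinearMap.lsmul A F p).codRestrict _ fun v => hIk ⟨v, rfl⟩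
  have hex : Function.Exact g t := by
    intro v
    constructor
    · intro hv
      obtain ⟨w, hw⟩ := (Submodule.Quotient.mk_eq_zero I).1 (congrArg Subtype.val hv)
      exact ⟨w, Subtype.ext hw⟩
    · rintro ⟨w, rfl⟩
      exact Subtype.ext ((Submodule.Quotient.mk_eq_zero I).2 ⟨w, rfl⟩)
  have h0 : t.rTensor M x = 0 := by
    apply hfinj
    rw [map_zero, ← LinearMap.rTensor_comp_apply]
    have : (f.restrictScalars A) ∘ₗ t = I.mkQ ∘ₗ q.ker.subtype := rfl
    rw [this, LinearMap.rTensor_comp_apply, hx, map_zero]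
  obtain ⟨y, rfl⟩ := (rTensor_exact M hex ht _).1 h0
  have hy : p • y = 0 := by
    rw [← LinearMap.rTensor_comp_apply] at hx
    have hgs : q.ker.subtype ∘ₗ g = p • LinearMap.id := rfl
    rw [hgs, LinearMap.rTensor_smul] at hx
    simpa using hx
  have hreg : IsSMulRegular (F ⊗[A] M) p := fun a b hab => by
    apply ((LinearEquiv.rTensor M (Module.Free.chooseBasis A F).repr).trans
      (TensorProduct.finsuppScalarLeft A M _)).injective
    have h := congrArg ((LinearEquiv.rTensor M (Module.Free.chooseBasis A F).repr).trans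
      (TensorProduct.finsuppScalarLeft A M _)) hab
    ext i
    exact hM (by simpa only [map_smul, Finsupp.smul_apply] using DFunLike.congr_fun h i)
  have hy0 : y = 0 := hreg (by simpa using hy)
  simp [hy0]

lemma torVanish_of_killed_pow (k : ℕ) :
    ∀ {X : Type u} [AddCommGroup X] [Module A X], (∀ x : X, p ^ k • x = 0) → TorVanish A M X := by
  induction k with
  | zero => exact fun hX => torVanish_of_killed hM h1 fun x => by rw [show x = 0 by simpa using hX x, smul_zero]
  | succ k ih =>
    intro X _ _ hX F _ _ _ q hq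
    let Y : Submodule A X := LinearMap.range (LinearMap.lsmul A X p)
    have hY : ∀ y : Y, p ^ k • y = 0 := by
      rintro ⟨_, x, rfl⟩
      exact Subtype.ext (by simpa [smul_smul, pow_succ] using hX x)
    have hZ : ∀ z : X ⧸ Y, p • z = 0 := by
      intro z
      obtain ⟨v, rfl⟩ := Submodule.Quotient.mk_surjective _ z
      exact (Submodule.Quotient.mk_eq_zero Y).2 ⟨v, rfl⟩
    let q2 : F →ₗ[A] X ⧸ Y := Y.mkQ ∘ₗ q
    have hK : Function.Injective (q2.ker.subtype.rTensor M) :=
      torVanish_of_killed hM h1 hZ F q2 ((Submodule.mkQ_surjective Y).comp hq)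
    let q1 : q2.ker →ₗ[A] Y := q.restrict fun v hv => (Submodule.Quotient.mk_eq_zero Y).1 hv
    have hq1 : Function.Surjective q1 := by
      rintro ⟨y, hy⟩
      obtain ⟨v, rfl⟩ := hq y
      exact ⟨⟨v, (Submodule.Quotient.mk_eq_zero Y).2 hy⟩, rfl⟩
    have h := (ih hY).injective q1 hq1
    let e : q.ker →ₗ[A] q1.ker :=
      ((q.ker.subtype.codRestrict q2.ker fun v => by simp [q2]).codRestrict q1.ker fun v => Subtype.ext v.2)
    have he : Function.Injective (e.rTensor M) := by
      let e' : q1.ker →ₗ[A] q.ker := (q2.ker.subtype ∘ₗ q1.ker.subtype).codRestrict q.ker fun v => congrArg Subtype.val v.2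
      have : e' ∘ₗ e = LinearMap.id := rfl
      exact Function.LeftInverse.injective (g := e'.rTensor M) fun v => by
        rw [← LinearMap.rTensor_comp_apply, this]; simp
    have hfac : q.ker.subtype = q2.ker.subtype ∘ₗ q1.ker.subtype ∘ₗ e := rfl
    rw [hfac, LinearMap.rTensor_comp, LinearMap.rTensor_comp]
    exact hK.comp (h.comp he)

/-- Flatness criterion with respect to a non-zero-divisor `p`. -/
theorem flat_of_quot_of_away (hA : IsSMulRegular A p)
    (h2 : Module.Flat (Localization.Away p) (LocalizedModule (Submonoid.powers p) M)) :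
    Module.Flat A M := by
  have : Module.Flat A (Localization.Away p) := IsLocalization.flat _ (Submonoid.powers p)
  have hM' : Module.Flat A (LocalizedModule (Submonoid.powers p) M) := Module.Flat.trans A (Localization.Away p) _
  rw [Module.Flat.iff_rTensor_injective']
  intro I
  refine (injective_iff_map_eq_zero _).2 fun x hx => ?_
  let mk := LocalizedModule.mkLinearMap (Submonoid.powers p) M
  have h0 : mk.lTensor I x = 0 := by
    apply Module.Flat.rTensor_preserves_injective_linearMap (M := LocalizedModule (Submonoid.powers p) M) I.subtype Subtype.val_injective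
    rw [map_zero, ← LinearMap.comp_apply, LinearMap.rTensor_comp_lTensor, ← LinearMap.lTensor_comp_rTensor,
      LinearMap.comp_apply, hx, map_zero]
  have h0' : AlgebraTensorModule.rTensor A I mk (TensorProduct.comm A I M x) = 0 := by
    rw [show AlgebraTensorModule.rTensor A I mk (TensorProduct.comm A I M x) =
      TensorProduct.comm A I _ (mk.lTensor I x) from (DFunLike.congr_fun (show (AlgebraTensorModule.rTensor A I mk) ∘ₗ (TensorProduct.comm A I M).toLinearMap = (TensorProduct.comm A I _).toLinearMap ∘ₗ mk.lTensor I from TensorProduct.ext' fun a b => rfl) x), h0, map_zero]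
  obtain ⟨⟨s, k, rfl⟩, hs⟩ := (IsLocalizedModule.eq_zero_iff (Submonoid.powers p) (AlgebraTensorModule.rTensor A I mk)).1 h0'
  have hx0 : p ^ k • x = 0 := (TensorProduct.comm A I M).injective (by simpa [Submonoid.smul_def] using hs)
  -- multiplication by `p ^ k` on `I ⊗ M` is injective
  let J : Submodule A I := LinearMap.range (LinearMap.lsmul A I (p ^ k))
  have hJ := (torVanish_of_killed_pow hM h1 k (X := I ⧸ J) fun z => by
    obtain ⟨v, rfl⟩ := Submodule.Quotient.mk_surjective _ z
    exact (Submodule.Quotient.mk_eq_zero J).2 ⟨v, rfl⟩).injective J.mkQ J.mkQ_surjective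
  rw [Submodule.ker_mkQ] at hJ
  let φ : I →ₗ[A] J := (LinearMap.lsmul A I (p ^ k)).rangeRestrict
  have hφ : Function.Injective φ := fun a b hab =>
    Subtype.ext ((hA.pow k) (congrArg Subtype.val (congrArg Subtype.val hab : p ^ k • a = p ^ k • b)))
  let ψ := LinearEquiv.ofBijective φ ⟨hφ, LinearMap.surjective_rangeRestrict _⟩
  have h3 : Function.Injective ((J.subtype ∘ₗ ψ.toLinearMap).rTensor M) := by
    rw [LinearMap.rTensor_comp]
    exact hJ.comp (LinearEquiv.rTensor M ψ).injective
  apply h3
  rw [map_zero, show J.subtype ∘ₗ ψ.toLinearMap = p ^ k • LinearMap.id from rfl, LinearMap.rTensor_smul]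
  simpa using hx0

end

end Groth.Agent.CAlgA.FlatCrit
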