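import Groth.Prelude.Def_KZero
import Groth.Agent.ResK0.Basic
import Mathlib.Algebra.Category.ModuleCat.Abelian
import Mathlib.Algebra.Homology.ShortComplex.ModuleCat
import Mathlib.RingTheory.GradedAlgebra.Homogeneous.Ideal
import Mathlib.Algebra.GradedMulAction
import Mathlib.Algebra.DirectSum.Decomposition
import Mathlib.RingTheory.Noetherian.Basic
import Mathlib.Data.Nat.Choose.Basic
import Mathlib.RingTheory.Finiteness.Basic

/-! Graded pieces of finite graded modules give numerical polynomials in `K₀`. -/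

set_option autoImplicit false

open CategoryTheory

universe u

namespace Groth.Agent.CAlgA.GradedK0

section Num

variable {G : Type*} [AddCommGroup G]

/-- `f` is eventually `n ↦ ∑_{i < r} C(n, i) • a i`. -/
def Num (r : ℕ) (f : ℕ → G) : Prop :=
  ∃ (a : Fin r → G) (N : ℕ), ∀ n, N ≤ n → f n = ∑ i : Fin r, ((n.choose (i : ℕ) : ℕ) : ℤ) • a i

theorem Num.congr {r : ℕ} {f g : ℕ → G} (N : ℕ) (h : ∀ n, N ≤ n → f n = g n) (hf : Num r f) : Num r g := by
  obtain ⟨a, M, hM⟩ := hf
  exact ⟨a, N + M, fun n hn => by rw [← h n (by omega), hM n (by omega)]⟩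

theorem Num.add {r : ℕ} {f g : ℕ → G} (hf : Num r f) (hg : Num r g) : Num r fun n => f n + g n := by
  obtain ⟨a, N, hN⟩ := hf
  obtain ⟨b, M, hM⟩ := hg
  exact ⟨a + b, N + M, fun n hn => by
    simp only [Pi.add_apply, smul_add, Finset.sum_add_distrib]
    rw [hN n (by omega), hM n (by omega)]⟩

theorem Num.neg {r : ℕ} {f : ℕ → G} (hf : Num r f) : Num r fun n => -f n := by
  obtain ⟨a, N, hN⟩ := hf
  exact ⟨-a, N, fun n hn => by simp only [Pi.neg_apply, smul_neg, Finset.sum_neg_distrib, hN n hn]⟩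

theorem num_zero (r : ℕ) : Num r fun _ => (0 : G) :=
  ⟨0, 0, fun n _ => by simp⟩

theorem num_term (r i : ℕ) (hi : i < r) (c : G) : Num r fun n => ((n.choose i : ℕ) : ℤ) • c :=
  ⟨Pi.single ⟨i, hi⟩ c, 0, fun n _ => by
    rw [Finset.sum_eq_single ⟨i, hi⟩ (fun j _ hj => by rw [Pi.single_eq_of_ne hj, smul_zero])
      (fun h => absurd (Finset.mem_univ _) h), Pi.single_eq_same]⟩

theorem num_sum {r : ℕ} {ι : Type*} (s : Finset ι) (f : ι → ℕ → G) (h : ∀ i ∈ s, Num r (f i)) :
    Num r fun n => ∑ i ∈ s, f i n := by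
  classical
  induction s using Finset.induction with
  | empty => simpa using num_zero (G := G) r
  | insert a s ha ih =>
    simp only [Finset.sum_insert ha]
    exact (h a (Finset.mem_insert_self a s)).add (ih fun i hi => h i (Finset.mem_insert_of_mem hi))

theorem Num.shift {r : ℕ} {f : ℕ → G} (hf : Num r f) : Num r fun n => f (n + 1) := by
  obtain ⟨a, N, hN⟩ := hf
  refine Num.congr (f := fun n => ∑ i : Fin r, (((n + 1).choose (i : ℕ) : ℕ) : ℤ) • a i) N
    (fun n hn => (hN (n + 1) (by omega)).symm) (num_sum _ _ fun i _ => ?_)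
  obtain ⟨i, hi⟩ := i
  cases i with
  | zero =>
    refine Num.congr 0 (fun n _ => ?_) (num_term r 0 hi (a ⟨0, hi⟩))
    simp
  | succ j =>
    refine Num.congr 0 (fun n _ => ?_) ((num_term r j (by omega) (a ⟨j + 1, hi⟩)).add (num_term r (j + 1) hi (a ⟨j + 1, hi⟩)))
    show _ + _ = (((n + 1).choose (j + 1) : ℕ) : ℤ) • a ⟨j + 1, hi⟩
    rw [Nat.choose_succ_succ, Nat.cast_add, add_smul]

theorem Num.of_diff {r : ℕ} {f : ℕ → G} (h : Num r fun n => f (n + 1) - f n) : Num (r + 1) f := by
  obtain ⟨a, N, hN⟩ := h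
  let t : ℕ → G := fun n => ∑ i : Fin r, ((n.choose ((i : ℕ) + 1) : ℕ) : ℤ) • a i
  refine ⟨Fin.cons (f N - t N) a, N, fun n hn => ?_⟩
  simp only [Fin.sum_univ_succ, Fin.cons_zero, Fin.cons_succ, Fin.val_zero, Nat.choose_zero_right,
    Nat.cast_one, one_smul, Fin.val_succ]
  show f n = (f N - t N) + t n
  induction n, hn using Nat.le_induction with
  | base => rw [sub_add_cancel]
  | succ n hn ih =>
    have ht : t (n + 1) = t n + (f (n + 1) - f n) := by
      rw [show f (n + 1) - f n = _ from hN n hn]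
      simp only [t, Nat.choose_succ_succ, Nat.cast_add, add_smul, Finset.sum_add_distrib]
      exact add_comm _ _
    rw [ht, ← add_assoc, ← ih]
    abel

end Num

section Class

variable {A : Type u} [CommRing A]

/-- The class of a finite module. -/
noncomputable abbrev kcl (X : Type u) [AddCommGroup X] [Module A X] :
    KZero.K0sub (fun Y : ModuleCat.{u} A => Module.Finite A Y) :=
  KZero.clSub (fun Y : ModuleCat.{u} A => Module.Finite A Y) (ModuleCat.of A X)

theorem kcl_exact {X Y Z : Type u} [AddCommGroup X] [Module A X] [AddCommGroup Y] [Module A Y]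
    [AddCommGroup Z] [Module A Z] [Module.Finite A X] [Module.Finite A Y]
    {f : X →ₗ[A] Y} {g : Y →ₗ[A] Z} (hf : Function.Injective f) (hg : Function.Surjective g)
    (h : Function.Exact f g) : kcl (A := A) Y = kcl (A := A) X + kcl (A := A) Z := by
  have hS := ModuleCat.shortComplex_shortExact
    (ModuleCat.shortComplexOfCompEqZero f g h.linearMap_comp_eq_zero) h hf hg
  exact Groth.Agent.ResK0.Basic.clSub_add (P := fun Y : ModuleCat.{u} A => Module.Finite A Y) hS
    (inferInstanceAs (Module.Finite A X)) (inferInstanceAs (Module.Finite A Y)) (Module.Finite.of_surjective g hg)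

theorem kcl_zero (X : Type u) [AddCommGroup X] [Module A X] [Subsingleton X] : kcl (A := A) X = 0 := by
  have : Module.Finite A X := ⟨by rw [Subsingleton.elim (⊤ : Submodule A X) ⊥]; exact Submodule.fg_bot⟩
  have h := kcl_exact (A := A) (f := (LinearMap.id : X →ₗ[A] X)) (g := (0 : X →ₗ[A] X))
    Function.injective_id (fun x => ⟨x, Subsingleton.elim _ _⟩) (fun x => by simp [Subsingleton.elim x 0])
  simpa using h

theorem kcl_congr {X Y : Type u} [AddCommGroup X] [Module A X] [AddCommGroup Y] [Module A Y]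
    [Module.Finite A X] (e : X ≃ₗ[A] Y) : kcl (A := A) X = kcl (A := A) Y := by
  have := Module.Finite.equiv e
  have h := kcl_exact (A := A) (f := e.toLinearMap) (g := (0 : Y →ₗ[A] PUnit.{u + 1})) e.injective
    (fun x => ⟨0, Subsingleton.elim _ _⟩) (fun y => ⟨fun _ => ⟨e.symm y, e.apply_symm_apply y⟩, fun _ => Subsingleton.elim _ _⟩)
  rw [kcl_zero (A := A) PUnit.{u + 1}, add_zero] at h
  exact h.symm

end Class

section Graded

variable {A S : Type u} [CommRing A] [CommRing S] [Algebra A S] {𝒜 : ℕ → Submodule A S} [GradedAlgebra 𝒜]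
variable {M : Type u} [AddCommGroup M] [Module A M] [Module S M] [IsScalarTower A S M]
variable (ℳ : ℕ → Submodule A M) [DirectSum.Decomposition ℳ] [SetLike.GradedSMul 𝒜 ℳ]

/-- The degree `n` component. -/
def comp (n : ℕ) (y : M) : M := (DirectSum.decompose ℳ y n : M)

omit [Module S M] [IsScalarTower A S M] in
theorem comp_mem (n : ℕ) (y : M) : comp ℳ n y ∈ ℳ n := SetLike.coe_mem _

omit [Module S M] [IsScalarTower A S M] in
theorem comp_of_mem {n : ℕ} {y : M} (h : y ∈ ℳ n) : comp ℳ n y = y := DirectSum.decompose_of_mem_same ℳ h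

omit [Module S M] [IsScalarTower A S M] in
theorem comp_of_ne {n i : ℕ} {y : M} (h : y ∈ ℳ i) (hne : i ≠ n) : comp ℳ n y = 0 :=
  DirectSum.decompose_of_mem_ne ℳ h hne

omit [Module S M] [IsScalarTower A S M] in
theorem comp_zero (n : ℕ) : comp ℳ n (0 : M) = 0 := by simp [comp]

omit [Module S M] [IsScalarTower A S M] in
theorem comp_add (n : ℕ) (y z : M) : comp ℳ n (y + z) = comp ℳ n y + comp ℳ n z := by
  simp [comp, DirectSum.decompose_add, DirectSum.add_apply]

omit [Module S M] [IsScalarTower A S M] in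
theorem comp_sum {ι : Type*} (n : ℕ) (s : Finset ι) (f : ι → M) :
    comp ℳ n (∑ i ∈ s, f i) = ∑ i ∈ s, comp ℳ n (f i) := by
  classical
  induction s using Finset.induction with
  | empty => simp [comp_zero]
  | insert a s ha ih => rw [Finset.sum_insert ha, Finset.sum_insert ha, comp_add, ih]

include 𝒜 in
theorem comp_smul_right {d n : ℕ} {z : M} (hz : z ∈ ℳ d) (s : S) :
    comp ℳ n (s • z) = if d ≤ n then (DirectSum.decompose 𝒜 s (n - d) : S) • z else 0 := by
  classical
  have hi : ∀ i, (DirectSum.decompose 𝒜 s i : S) • z ∈ ℳ (i + d) := fun i =>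
    vadd_eq_add i d ▸ SetLike.GradedSMul.smul_mem (A := 𝒜) (SetLike.coe_mem _) hz
  conv_lhs => rw [← DirectSum.sum_support_decompose 𝒜 s, Finset.sum_smul, comp_sum]
  split_ifs with h
  · rw [Finset.sum_eq_single (n - d)]
    · exact comp_of_mem ℳ (by simpa [Nat.sub_add_cancel h] using hi (n - d))
    · intro i _ hne; exact comp_of_ne ℳ (hi i) (by omega)
    · intro hns; rw [DFinsupp.notMem_support_iff.1 hns]; simp [comp_zero]
  · exact Finset.sum_eq_zero fun i _ => comp_of_ne ℳ (hi i) (by omega)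

include 𝒜 in
theorem comp_smul_left {x : S} (hx : x ∈ 𝒜 1) (n : ℕ) (y : M) :
    comp ℳ (n + 1) (x • y) = x • comp ℳ n y ∧ comp ℳ 0 (x • y) = 0 := by
  classical
  have hi : ∀ i, x • comp ℳ i y ∈ ℳ (1 + i) := fun i => SetLike.GradedSMul.smul_mem hx (comp_mem ℳ i y)
  have hy : x • y = ∑ i ∈ (DirectSum.decompose ℳ y).support, x • comp ℳ i y := by
    rw [← Finset.smul_sum]; exact congrArg (x • ·) (DirectSum.sum_support_decompose ℳ y).symm
  rw [hy, comp_sum, comp_sum]
  constructor
  · rw [Finset.sum_eq_single n]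
    · exact comp_of_mem ℳ (by simpa [add_comm] using hi n)
    · intro i _ hne; exact comp_of_ne ℳ (hi i) (by omega)
    · intro hns
      rw [show comp ℳ n y = 0 by simp [comp, DFinsupp.notMem_support_iff.1 hns], smul_zero, comp_zero]
  · exact Finset.sum_eq_zero fun i _ => comp_of_ne ℳ (hi i) (by omega)

/-- A submodule closed under taking components. -/
def Hom (N : Submodule S M) : Prop := ∀ y ∈ N, ∀ n, comp ℳ n y ∈ N

/-- The degree `n` piece of a submodule. -/
def piece (N : Submodule S M) (n : ℕ) : Submodule A M := N.restrictScalars A ⊓ ℳ n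

theorem hom_bot : Hom ℳ (⊥ : Submodule S M) := fun y hy n => by
  rw [(Submodule.mem_bot S).1 hy, comp_zero]; exact zero_mem _

theorem hom_top : Hom ℳ (⊤ : Submodule S M) := fun _ _ _ => trivial

include 𝒜 in
theorem piece_fg (h0 : ∀ s ∈ 𝒜 0, s ∈ Set.range (algebraMap A S)) [IsNoetherian S M] (N : Submodule S M)
    (n : ℕ) : (piece ℳ N n).FG := by
  classical
  obtain ⟨t, ht, hspan⟩ := Submodule.fg_span_iff_fg_span_finset_subset _ |>.1
    (IsNoetherian.noetherian (Submodule.span S (piece ℳ N n : Set M)))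
  refine ⟨t, le_antisymm (Submodule.span_le.2 ht) fun y hy => ?_⟩
  have h : y ∈ Submodule.span S (t : Set M) := hspan ▸ Submodule.subset_span hy
  have key : ∀ v ∈ Submodule.span S (t : Set M), ∀ s : S, comp ℳ n (s • v) ∈ Submodule.span A (t : Set M) := by
    intro v hv
    induction hv using Submodule.span_induction with
    | mem z hz =>
      intro s
      obtain ⟨a, ha⟩ := h0 _ (DirectSum.decompose 𝒜 s 0).2
      rw [comp_smul_right (𝒜 := 𝒜) ℳ (ht hz).2 s, if_pos le_rfl, Nat.sub_self, ← ha, algebraMap_smul]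
      exact Submodule.smul_mem _ _ (Submodule.subset_span hz)
    | zero => intro s; rw [smul_zero, comp_zero]; exact zero_mem _
    | add a b _ _ ha hb => intro s; rw [smul_add, comp_add]; exact add_mem (ha s) (hb s)
    | smul r a _ ha => intro s; rw [smul_smul]; exact ha _
  have := key y h 1
  rwa [one_smul, comp_of_mem ℳ hy.2] at this

/-- The class of a degree `n` piece. -/
noncomputable def cls (N : Submodule S M) (n : ℕ) : KZero.K0sub (fun Y : ModuleCat.{u} A => Module.Finite A Y) :=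
  kcl (A := A) (piece ℳ N n)

variable [IsNoetherian S M]

include 𝒜 in
theorem cls_step (h0 : ∀ s ∈ 𝒜 0, s ∈ Set.range (algebraMap A S)) {x : S} (hx : x ∈ 𝒜 1) {L N : Submodule S M}
    (hLN : L ≤ N) (hL : Hom ℳ L) (hN : Hom ℳ N) (n : ℕ) :
    cls ℳ (L ⊔ N.map (LinearMap.lsmul S M x)) (n + 1) - cls ℳ L (n + 1) =
      cls ℳ N n - cls ℳ (N ⊓ L.comap (LinearMap.lsmul S M x)) n := by
  set C := L ⊔ N.map (LinearMap.lsmul S M x)
  set K := N ⊓ L.comap (LinearMap.lsmul S M x)
  have hfin : ∀ (P : Submodule S M) (j : ℕ), Module.Finite A (piece ℳ P j) := fun P j =>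
    Module.Finite.iff_fg.2 (piece_fg (𝒜 := 𝒜) ℳ h0 P j)
  have := hfin C (n + 1); have := hfin L (n + 1); have := hfin N n; have := hfin K n
  let W := (piece ℳ L (n + 1)).submoduleOf (piece ℳ C (n + 1))
  let i₁ : piece ℳ L (n + 1) →ₗ[A] piece ℳ C (n + 1) := Submodule.inclusion (fun y hy => ⟨(le_sup_left : L ≤ C) hy.1, hy.2⟩)
  have e1 := kcl_exact (A := A) (f := i₁) (g := W.mkQ) (Submodule.inclusion_injective _) W.mkQ_surjective (fun y => by
    rw [Submodule.mkQ_apply, Submodule.Quotient.mk_eq_zero]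
    exact ⟨fun h => ⟨⟨y.1, h⟩, rfl⟩, by rintro ⟨z, rfl⟩; exact z.2⟩)
  let i₂ : piece ℳ K n →ₗ[A] piece ℳ N n := Submodule.inclusion (fun y hy => ⟨(inf_le_left : K ≤ N) hy.1, hy.2⟩)
  let m : piece ℳ N n →ₗ[A] piece ℳ C (n + 1) :=
    (((LinearMap.lsmul S M x).restrictScalars A).comp (piece ℳ N n).subtype).codRestrict _ fun y =>
      ⟨Submodule.mem_sup_right ⟨y.1, y.2.1, rfl⟩, by simpa [add_comm] using SetLike.GradedSMul.smul_mem hx y.2.2⟩
  have hsurj : Function.Surjective (W.mkQ.comp m) := by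
    intro q
    obtain ⟨⟨y, hy, hyd⟩, rfl⟩ := W.mkQ_surjective q
    obtain ⟨l, hl, _, ⟨v, hv, rfl⟩, rfl⟩ := Submodule.mem_sup.1 hy
    refine ⟨⟨comp ℳ n v, hN v hv n, comp_mem ℳ n v⟩, ?_⟩
    rw [LinearMap.comp_apply, Submodule.mkQ_apply, Submodule.mkQ_apply, Submodule.Quotient.eq]
    have e := comp_of_mem ℳ hyd
    rw [comp_add, LinearMap.lsmul_apply, (comp_smul_left (𝒜 := 𝒜) ℳ hx n v).1] at e
    show x • comp ℳ n v - (l + x • v) ∈ piece ℳ L (n + 1)
    rw [← e, sub_add_cancel_right]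
    exact neg_mem ⟨hL l hl _, comp_mem ℳ _ l⟩
  have e2 := kcl_exact (A := A) (f := i₂) (g := W.mkQ.comp m) (Submodule.inclusion_injective _) hsurj (fun y => by
    rw [LinearMap.comp_apply, Submodule.mkQ_apply, Submodule.Quotient.mk_eq_zero]
    exact ⟨fun h => ⟨⟨y.1, ⟨y.2.1, h.1⟩, y.2.2⟩, rfl⟩, by rintro ⟨z, rfl⟩; exact ⟨z.2.1.2, (m (i₂ z)).2.2⟩⟩)
  show kcl (A := A) (piece ℳ C (n + 1)) - kcl (A := A) (piece ℳ L (n + 1)) =
    kcl (A := A) (piece ℳ N n) - kcl (A := A) (piece ℳ K n)
  rw [e1, e2, add_sub_cancel_left, add_sub_cancel_left]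

include 𝒜 in
theorem num_cls_sub (h0 : ∀ s ∈ 𝒜 0, s ∈ Set.range (algebraMap A S)) {r : ℕ} (g : Fin r → S)
    (hg : ∀ i, g i ∈ 𝒜 1) (hpos : ∀ j, 0 < j → ∀ s ∈ 𝒜 j, s ∈ Ideal.span (Set.range g)) :
    ∀ (t : ℕ), t ≤ r → ∀ (L N : Submodule S M), L ≤ N → Hom ℳ L → Hom ℳ N →
      (∀ i : Fin r, t ≤ (i : ℕ) → ∀ y ∈ N, g i • y ∈ L) → Num t fun n => cls ℳ N n - cls ℳ L n := by
  classical
  intro t
  induction t with
  | zero =>
    intro _ L N hLN hL hN hkill
    let F : ℕ →o Submodule S M := ⟨fun D => Submodule.span S (⋃ d ∈ Finset.range D, (piece ℳ N d : Set M)),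
      fun a b hab => Submodule.span_mono (Set.biUnion_subset_biUnion_left fun d hd => Finset.range_mono hab hd)⟩
    obtain ⟨D, hD⟩ := monotone_stabilizes_iff_noetherian.2 (inferInstance : IsNoetherian S M) F
    have hann : ∀ s ∈ Ideal.span (Set.range g), ∀ y ∈ N, s • y ∈ L := by
      intro s hs
      induction hs using Submodule.span_induction with
      | mem s hs => obtain ⟨i, rfl⟩ := hs; exact hkill i (Nat.zero_le _)
      | zero => intro y _; rw [zero_smul]; exact zero_mem _
      | add a b _ _ ha hb => intro y hy; rw [add_smul]; exact add_mem (ha y hy) (hb y hy)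
      | smul c a _ ha => intro y hy; rw [smul_eq_mul, mul_smul]; exact L.smul_mem c (ha y hy)
    refine Num.congr (f := fun _ => 0) D (fun n hn => ?_) (num_zero 0)
    have hle : piece ℳ N n ≤ piece ℳ L n := by
      intro y hy
      have h1 : y ∈ F (n + 1) := Submodule.subset_span (Set.mem_biUnion (Finset.mem_coe.2 (Finset.mem_range.2 (Nat.lt_succ_self n))) hy)
      rw [← hD (n + 1) (by omega)] at h1
      have key : ∀ v ∈ F D, ∀ s : S, comp ℳ n (s • v) ∈ L := by
        intro v hv
        induction hv using Submodule.span_induction with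
        | mem z hz =>
          intro s
          obtain ⟨d, hd, hz⟩ := Set.mem_iUnion₂.1 hz
          have hd' : d < D := Finset.mem_range.1 hd
          rw [comp_smul_right (𝒜 := 𝒜) ℳ hz.2 s, if_pos (by omega)]
          exact hann _ (hpos (n - d) (by omega) _ (SetLike.coe_mem _)) _ hz.1
        | zero => intro s; rw [smul_zero, comp_zero]; exact zero_mem _
        | add a b _ _ ha hb => intro s; rw [smul_add, comp_add]; exact add_mem (ha s) (hb s)
        | smul c a _ ha => intro s; rw [smul_smul]; exact ha _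
      refine ⟨?_, hy.2⟩
      have := key y h1 1
      rwa [one_smul, comp_of_mem ℳ hy.2] at this
    have he : piece ℳ N n = piece ℳ L n := le_antisymm hle fun y hy => ⟨hLN hy.1, hy.2⟩
    show (0 : KZero.K0sub (fun Y : ModuleCat.{u} A => Module.Finite A Y)) = _
    have e := congrArg (fun P : Submodule A M => kcl (A := A) P) he
    exact (sub_eq_zero.2 e).symm
  | succ t ih =>
    intro ht L N hLN hL hN hkill
    set x := g ⟨t, ht⟩
    have hx := hg ⟨t, ht⟩
    set C := L ⊔ N.map (LinearMap.lsmul S M x)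
    set K := N ⊓ L.comap (LinearMap.lsmul S M x)
    have hCN : C ≤ N := sup_le hLN (Submodule.map_le_iff_le_comap.2 fun y hy => N.smul_mem x hy)
    have hC : Hom ℳ C := by
      intro y hy j
      obtain ⟨l, hl, _, ⟨v, hv, rfl⟩, rfl⟩ := Submodule.mem_sup.1 hy
      rw [comp_add]
      refine add_mem (Submodule.mem_sup_left (hL l hl j)) ?_
      cases j with
      | zero => rw [LinearMap.lsmul_apply, (comp_smul_left (𝒜 := 𝒜) ℳ hx 0 v).2]; exact zero_mem _
      | succ j =>
        rw [LinearMap.lsmul_apply, (comp_smul_left (𝒜 := 𝒜) ℳ hx j v).1]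
        exact Submodule.mem_sup_right ⟨_, hN v hv j, rfl⟩
    have hK : Hom ℳ K := by
      rintro y ⟨hy, hxy⟩ j
      refine ⟨hN y hy j, ?_⟩
      show x • comp ℳ j y ∈ L
      rw [← (comp_smul_left (𝒜 := 𝒜) ℳ hx j y).1]
      exact hL _ hxy _
    have hLK : L ≤ K := fun y hy => ⟨hLN hy, L.smul_mem x hy⟩
    have h1 := ih (Nat.le_of_succ_le ht) C N hCN hC hN fun i hi y hy => by
      rcases eq_or_lt_of_le hi with h | h
      · obtain rfl : i = ⟨t, ht⟩ := Fin.ext h.symm
        exact Submodule.mem_sup_right ⟨y, hy, rfl⟩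
      · exact Submodule.mem_sup_left (hkill i h y hy)
    have h2 := ih (Nat.le_of_succ_le ht) L K hLK hL hK fun i hi y hy => by
      rcases eq_or_lt_of_le hi with h | h
      · obtain rfl : i = ⟨t, ht⟩ := Fin.ext h.symm
        exact hy.2
      · exact hkill i h y hy.1
    refine Num.of_diff (Num.congr 0 (fun n _ => ?_) (h1.shift.add h2.neg))
    have := cls_step (𝒜 := 𝒜) ℳ h0 hx hLN hL hN n
    show cls ℳ N (n + 1) - cls ℳ C (n + 1) + -(cls ℳ K n - cls ℳ L n) = cls ℳ N (n + 1) - cls ℳ L (n + 1) - (cls ℳ N n - cls ℳ L n)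
    rw [eq_add_of_sub_eq this]
    abel

end Graded

end Groth.Agent.CAlgA.GradedK0
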