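import Groth.Agent.FlatDVR.Ass
import Mathlib.RingTheory.Filtration
import Mathlib.RingTheory.AdicCompletion.Basic
import Mathlib.RingTheory.Flat.Stability
import Mathlib.RingTheory.Flat.EquationalCriterion
import Mathlib.LinearAlgebra.TensorProduct.Quotient
import Mathlib.RingTheory.TensorProduct.Basic
import Mathlib.RingTheory.Localization.BaseChange

/-! Flatness of ideally separated modules. -/

set_option autoImplicit false
universe u

open TensorProduct Function

namespace Groth.Agent.CAlgA.IdealSepFlat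

variable {A : Type u} [CommRing A] (M : Type u) [AddCommGroup M] [Module A M]

/-- Base change of flatness along an algebra map. -/
lemma flat_bc {S T : Type u} [CommRing S] [CommRing T] [Algebra A S] [Algebra A T] (φ : S →ₐ[A] T)
    [Module.Flat S (S ⊗[A] M)] : Module.Flat T (T ⊗[A] M) := by
  letI := φ.toRingHom.toAlgebra
  haveI : IsScalarTower A S T := IsScalarTower.of_algebraMap_eq fun a => (φ.commutes a).symm
  exact Module.Flat.of_linearEquiv (AlgebraTensorModule.cancelBaseChange A S T T M).symm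

/-- Flatness modulo `K` from flatness modulo `J` and at primes dominating the associated primes of `A/K`. -/
lemma flat_quot_of_ass [IsNoetherianRing A] (J K : Ideal A) (n : ℕ) (hn : J ^ n ≤ K)
    (h1 : Module.Flat (A ⧸ J) ((A ⧸ J) ⊗[A] M))
    (h2 : ∀ q ∈ associatedPrimes A (A ⧸ K), ∃ (p : Ideal A) (_ : p.IsPrime), q ≤ p ∧
      Module.Flat (Localization.AtPrime p) (LocalizedModule p.primeCompl M)) :
    Module.Flat (A ⧸ K) ((A ⧸ K) ⊗[A] M) := by
  let J' : Ideal (A ⧸ K) := J.map (Ideal.Quotient.mk K)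
  have hJ' : IsNilpotent J' := ⟨n, by
    rw [← Ideal.map_pow, Ideal.zero_eq_bot, eq_bot_iff]
    exact (Ideal.map_mono hn).trans_eq (Ideal.map_quotient_self K)⟩
  haveI : IsNoetherianRing (A ⧸ K) := isNoetherianRing_of_surjective A (A ⧸ K) _ Ideal.Quotient.mk_surjective
  let φ : (A ⧸ J) →ₐ[A] (A ⧸ K) ⧸ J' :=
    Ideal.Quotient.liftₐ J (Algebra.ofId A ((A ⧸ K) ⧸ J')) fun a ha => by
      show algebraMap A ((A ⧸ K) ⧸ J') a = 0
      rw [IsScalarTower.algebraMap_apply A (A ⧸ K) ((A ⧸ K) ⧸ J'), Ideal.Quotient.algebraMap_eq,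
        Ideal.Quotient.eq_zero_iff_mem]
      exact Ideal.mem_map_of_mem _ ha
  haveI := flat_bc M φ
  haveI : Module.Flat ((A ⧸ K) ⧸ J') (((A ⧸ K) ⧸ J') ⊗[A ⧸ K] ((A ⧸ K) ⊗[A] M)) :=
    Module.Flat.of_linearEquiv (AlgebraTensorModule.cancelBaseChange A (A ⧸ K) ((A ⧸ K) ⧸ J') ((A ⧸ K) ⧸ J') M)
  refine Groth.Agent.FlatDVR.flat_of_flat_mod_nilpotent_of_ass J' hJ' _ fun q _ hq => ?_
  have hq' : q.comap (Ideal.Quotient.mk K) ∈ associatedPrimes A (A ⧸ K) := by
    obtain ⟨hqp, x, hx⟩ := isAssociatedPrime_iff.1 hq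
    refine isAssociatedPrime_iff.2 ⟨inferInstance, x, ?_⟩
    ext r
    rw [Ideal.mem_comap, hx, Submodule.mem_colon_singleton, Submodule.mem_colon_singleton, Submodule.mem_bot,
      Submodule.mem_bot]
    exact Iff.of_eq (congrArg (· = 0) (by rw [Algebra.smul_def]; rfl))
  obtain ⟨p, hp, hqp, hflat⟩ := h2 _ hq'
  let Lq := Localization.AtPrime q
  haveI : Module.Flat (Localization.AtPrime p) (Localization.AtPrime p ⊗[A] M) :=
    Module.Flat.of_linearEquiv (LocalizedModule.equivTensorProduct p.primeCompl M).symm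
  have hu : ∀ y : p.primeCompl, IsUnit (Algebra.ofId A Lq (y : A)) := fun y => by
    show IsUnit (algebraMap A Lq y)
    rw [IsScalarTower.algebraMap_apply A (A ⧸ K) Lq]
    exact IsLocalization.map_units Lq (⟨algebraMap A (A ⧸ K) y, fun h => y.2 (hqp h)⟩ : q.primeCompl)
  haveI := flat_bc M (IsLocalization.liftAlgHom (S := Localization.AtPrime p) hu)
  exact Module.Flat.of_linearEquiv ((LocalizedModule.equivTensorProduct q.primeCompl ((A ⧸ K) ⊗[A] M)).trans
    (AlgebraTensorModule.cancelBaseChange A (A ⧸ K) Lq Lq M))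

/-- Tensoring with a module flat modulo `K` preserves injections into modules killed by `K`. -/
lemma rTensor_injective_of_killed (K : Ideal A) (h : Module.Flat (A ⧸ K) ((A ⧸ K) ⊗[A] M))
    {X Y : Type u} [AddCommGroup X] [Module A X] [Module (A ⧸ K) X] [IsScalarTower A (A ⧸ K) X]
    [AddCommGroup Y] [Module A Y] [Module (A ⧸ K) Y] [IsScalarTower A (A ⧸ K) Y]
    (f : X →ₗ[A ⧸ K] Y) (hf : Injective f) : Injective ((f.restrictScalars A).rTensor M) := by
  let S := A ⧸ K
  let cX := AlgebraTensorModule.cancelBaseChange A S S X M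
  let cY := AlgebraTensorModule.cancelBaseChange A S S Y M
  have key : ∀ z, (f.restrictScalars A).rTensor M (cX z) = cY (f.rTensor (S ⊗[A] M) z) := by
    intro z
    induction z with
    | zero => simp
    | add a b ha hb => simp [ha, hb]
    | tmul a w =>
      induction w with
      | zero => simp
      | add a' b' ha hb => simp [tmul_add, ha, hb]
      | tmul s m => simp [cX, cY, S]
  intro x y hxy
  obtain ⟨a, rfl⟩ := cX.surjective x
  obtain ⟨b, rfl⟩ := cX.surjective y
  rw [key, key] at hxy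
  rw [Module.Flat.rTensor_preserves_injective_linearMap f hf (cY.injective hxy)]

/-- An ideally separated module which is flat modulo all powers of `J` is flat. -/
theorem flat_of_forall_flat_quot [IsNoetherianRing A] (J : Ideal A)
    (hsep : ∀ a : Ideal A, IsHausdorff J (↥a ⊗[A] M))
    (h : ∀ n, Module.Flat (A ⧸ J ^ n) ((A ⧸ J ^ n) ⊗[A] M)) : Module.Flat A M := by
  rw [Module.Flat.iff_rTensor_injective']
  intro a
  rw [injective_iff_map_eq_zero]
  intro x hx
  refine IsHausdorff.haus (hsep a) x fun k => ?_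
  rw [SModEq.zero]
  obtain ⟨c, hc⟩ := J.exists_pow_inf_eq_pow_smul (M := A) a
  set K : Submodule A a := Submodule.comap a.subtype (J ^ (k + c) • ⊤) with hK
  have hKk : K ≤ J ^ k • ⊤ := by
    intro j hj
    have : (j : A) ∈ J ^ k • (J ^ c • ⊤ ⊓ a) := by
      have h2 := hc (k + c) (Nat.le_add_left _ _)
      rw [Nat.add_sub_cancel] at h2
      rw [← h2]
      exact ⟨hj, j.2⟩
    have h3 : (j : A) ∈ (J ^ k • ⊤ : Submodule A a).map a.subtype := by
      rw [Submodule.map_smul'', Submodule.map_top, Submodule.range_subtype]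
      exact Submodule.smul_mono le_rfl inf_le_right this
    obtain ⟨j', hj', hjj⟩ := h3
    rwa [← Subtype.ext (a1 := j') (a2 := j) hjj]
  let f : (a ⧸ K) →ₗ[A] A ⧸ (J ^ (k + c) • ⊤ : Submodule A A) := K.mapQ _ a.subtype le_rfl
  have hf : Injective f := by
    rw [← LinearMap.ker_eq_bot, Submodule.ker_mapQ, hK, Submodule.mkQ_map_self]
  have hY : Module.IsTorsionBySet A (A ⧸ (J ^ (k + c) • ⊤ : Submodule A A)) ((J ^ (k + c) : Ideal A) : Set A) := by
    intro y r
    obtain ⟨y, rfl⟩ := Submodule.Quotient.mk_surjective _ y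
    exact (Submodule.Quotient.mk_eq_zero _).2 (Submodule.smul_mem_smul r.2 trivial)
  have hX : Module.IsTorsionBySet A (a ⧸ K) ((J ^ (k + c) : Ideal A) : Set A) := fun y r => hf (by
    rw [map_smul, map_zero]
    exact @hY (f y) r)
  letI := hY.module
  letI := hX.module
  haveI : IsScalarTower A (A ⧸ J ^ (k + c)) (A ⧸ (J ^ (k + c) • ⊤ : Submodule A A)) := hY.isScalarTower
  haveI : IsScalarTower A (A ⧸ J ^ (k + c)) (a ⧸ K) := hX.isScalarTower
  have hinj := rTensor_injective_of_killed M (J ^ (k + c)) (h _)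
    (f.extendScalarsOfSurjective (S := A ⧸ J ^ (k + c)) Ideal.Quotient.mk_surjective) hf
  have h0 : K.mkQ.rTensor M x = 0 := by
    apply hinj
    rw [map_zero]
    show f.rTensor M _ = 0
    rw [← LinearMap.rTensor_comp_apply, show f ∘ₗ K.mkQ = Submodule.mkQ _ ∘ₗ a.subtype from rfl,
      LinearMap.rTensor_comp_apply, hx, map_zero]
  obtain ⟨y, rfl⟩ := (rTensor_exact M (LinearMap.exact_subtype_mkQ K) (Submodule.mkQ_surjective K) x).mp h0
  clear hx h0
  induction y with
  | zero => simp
  | add y z hy hz => rw [map_add]; exact add_mem hy hz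
  | tmul j m =>
    rw [LinearMap.rTensor_tmul, Submodule.subtype_apply]
    exact Submodule.smul_top_le_comap_smul_top _ ((TensorProduct.mk A a M).flip m) (hKk j.2)

end Groth.Agent.CAlgA.IdealSepFlat
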