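import Mathlib.RingTheory.Spectrum.Prime.Topology

/-! Connected components of a prime spectrum are cut out by idempotents. -/

universe u

namespace Groth.Agent.CAlgA.Idempotents

open PrimeSpectrum

variable {R : Type u} [CommRing R]

theorem mem_span_idem_iff (p : PrimeSpectrum R) (x : R) :
    x ∈ Ideal.span {e : R | IsIdempotentElem e ∧ e ∈ p.asIdeal} →
      ∃ f : R, IsIdempotentElem f ∧ f ∈ p.asIdeal ∧ x * f = x := by
  intro hx
  induction hx using Submodule.span_induction with
  | mem x hx => exact ⟨x, hx.1, hx.2, hx.1⟩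
  | zero => exact ⟨0, IsIdempotentElem.zero, zero_mem _, zero_mul 0⟩
  | add x y _ _ hx hy =>
    obtain ⟨f, hf, hfp, hxf⟩ := hx
    obtain ⟨g, hg, hgp, hyg⟩ := hy
    refine ⟨f + g - f * g, hf.add_sub_mul hg,
      sub_mem (add_mem hfp hgp) (Ideal.mul_mem_left _ _ hgp), ?_⟩
    linear_combination (1 - g) * hxf + (1 - f) * hyg
  | smul r x _ hx =>
    obtain ⟨f, hf, hfp, hxf⟩ := hx
    exact ⟨f, hf, hfp, by rw [smul_eq_mul, mul_assoc, hxf]⟩

theorem mem_or_compl_mem (p : PrimeSpectrum R) (e : R)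
    (he : e * e - e ∈ Ideal.span {e : R | IsIdempotentElem e ∧ e ∈ p.asIdeal}) :
    e ∈ Ideal.span {e : R | IsIdempotentElem e ∧ e ∈ p.asIdeal} ∨
      1 - e ∈ Ideal.span {e : R | IsIdempotentElem e ∧ e ∈ p.asIdeal} := by
  obtain ⟨f, hf, hfp, h⟩ := mem_span_idem_iff p _ he
  have hf' : f * f = f := hf
  have hidem : IsIdempotentElem (e * (1 - f)) := by
    rw [IsIdempotentElem]
    linear_combination (e * e) * hf' - h
  have hfI : f ∈ Ideal.span {e : R | IsIdempotentElem e ∧ e ∈ p.asIdeal} := Ideal.subset_span ⟨hf, hfp⟩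
  by_cases hep : e * (1 - f) ∈ p.asIdeal
  · left
    have := Ideal.add_mem _ (Ideal.subset_span ⟨hidem, hep⟩ :
      e * (1 - f) ∈ Ideal.span {e : R | IsIdempotentElem e ∧ e ∈ p.asIdeal}) (Ideal.mul_mem_left _ e hfI)
    rwa [← mul_add, sub_add_cancel, mul_one] at this
  · right
    have h0 : (e * (1 - f)) * (1 - e * (1 - f)) = 0 := by rw [mul_sub, mul_one, hidem.eq, sub_self]
    have hep' : 1 - e * (1 - f) ∈ p.asIdeal :=
      (p.isPrime.mem_or_mem (h0 ▸ p.asIdeal.zero_mem)).resolve_left hep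
    have := Ideal.sub_mem _ (Ideal.subset_span ⟨hidem.one_sub, hep'⟩ :
      1 - e * (1 - f) ∈ Ideal.span {e : R | IsIdempotentElem e ∧ e ∈ p.asIdeal}) (Ideal.mul_mem_left _ e hfI)
    rwa [show 1 - e * (1 - f) - e * f = 1 - e by ring] at this

theorem connectedComponent_eq (p : PrimeSpectrum R) :
    connectedComponent p = zeroLocus {e : R | IsIdempotentElem e ∧ e ∈ p.asIdeal} := by
  refine Set.Subset.antisymm ?_ ?_
  · rintro q hq e ⟨he, hep⟩
    have hclop : IsClopen (zeroLocus ({e} : Set R)) := isClopen_iff_zeroLocus.2 ⟨e, he, rfl⟩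
    have := hclop.connectedComponent_subset (x := p) (by simpa [mem_zeroLocus] using hep) hq
    simpa [mem_zeroLocus] using this
  · let I := Ideal.span {e : R | IsIdempotentElem e ∧ e ∈ p.asIdeal}
    have : PreconnectedSpace (PrimeSpectrum (R ⧸ I)) := by
      rw [preconnectedSpace_iff_clopen]
      intro s hs
      obtain ⟨e, he, rfl⟩ := PrimeSpectrum.isClopen_iff.1 hs
      obtain ⟨e, rfl⟩ := Ideal.Quotient.mk_surjective e
      rcases mem_or_compl_mem p e (Ideal.Quotient.eq.1 (by rw [map_mul]; exact he)) with h | h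
      · left
        rw [Ideal.Quotient.eq_zero_iff_mem.2 h]
        simp [PrimeSpectrum.basicOpen_zero]
      · right
        rw [← Ideal.Quotient.mk_eq_mk_iff_sub_mem] at h
        rw [← h, map_one]
        simp [PrimeSpectrum.basicOpen_one]
    have hrange : Set.range (comap (Ideal.Quotient.mk I)) = zeroLocus {e : R | IsIdempotentElem e ∧ e ∈ p.asIdeal} := by
      rw [range_comap_of_surjective _ _ Ideal.Quotient.mk_surjective, Ideal.mk_ker, zeroLocus_span]
    rw [← hrange]
    refine (isPreconnected_range (continuous_comap _)).subset_connectedComponent ?_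
    rw [hrange]
    exact fun e he => he.2

end Groth.Agent.CAlgA.Idempotents
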