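import Mathlib

/-! The Jacobian criterion at a point of a quotient. -/

set_option autoImplicit false
universe u

namespace Groth.Agent.CAlgA.JacobianCore

open TensorProduct IsLocalRing KaehlerDifferential

/-- The Jacobian criterion for a quotient of a formally smooth Noetherian local ring. -/
lemma core (R P : Type u) [CommRing R] [CommRing P] [Algebra R P] [IsLocalRing P]
    [Algebra.FormallySmooth R P] [Module.Free P Ω[P⁄R]] [Module.Finite P Ω[P⁄R]]
    (J : Ideal P) (hJ : J ≠ ⊤) {ι : Type*} (v : ι → P) (G : Set ι) (hG : J = Ideal.span (v '' G)) (hfg : J.FG) :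
    Algebra.FormallySmooth R (P ⧸ J) ↔ ∃ s : Finset ι, (↑s : Set ι) ⊆ G ∧ J = Ideal.span (v '' ↑s) ∧
      LinearIndependent (ResidueField P)
        (fun g : ↥s => (1 : ResidueField P) ⊗ₜ[P] KaehlerDifferential.D R P (v g)) := by
  classical
  haveI : Nontrivial (P ⧸ J) := Ideal.Quotient.nontrivial_iff.2 hJ
  haveI : IsLocalRing (P ⧸ J) := IsLocalRing.of_surjective' _ Ideal.Quotient.mk_surjective
  letI : Algebra (P ⧸ J) (ResidueField P) := (Ideal.Quotient.factor (le_maximalIdeal hJ)).toAlgebra
  haveI : IsScalarTower P (P ⧸ J) (ResidueField P) := IsScalarTower.of_algebraMap_eq fun _ => rfl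
  have hker : RingHom.ker (algebraMap P (P ⧸ J)) = J := Ideal.mk_ker
  have hfgK : (RingHom.ker (algebraMap P (P ⧸ J))).FG := hker.symm ▸ hfg
  have hmax : maximalIdeal (P ⧸ J) ≤ RingHom.ker (algebraMap (P ⧸ J) (ResidueField P)) := by
    intro x hx
    obtain ⟨x, rfl⟩ := Ideal.Quotient.mk_surjective x
    show residue P x = 0
    rw [residue_eq_zero_iff]
    exact fun hu => hx (hu.map _)
  rw [Algebra.FormallySmooth.iff_injective_cotangentComplexBaseChange (S := P ⧸ J) P (ResidueField P)
    Ideal.Quotient.mk_surjective hfgK hmax]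
  let k := ResidueField P
  let K := RingHom.ker (algebraMap P (P ⧸ J))
  let φ := KaehlerDifferential.cotangentComplexBaseChange R (P ⧸ J) P k
  have hjmem : ∀ g : G, v g ∈ K := fun g => by
    simp only [K, hker, hG]
    exact Ideal.subset_span ⟨g, g.2, rfl⟩
  let j : G → K := fun g => ⟨v g, hjmem g⟩
  have hφ : ∀ g : G, φ (1 ⊗ₜ j g) = 1 ⊗ₜ KaehlerDifferential.D R P (v g) := fun g => by
    simp only [φ, KaehlerDifferential.cotangentComplexBaseChange_tmul, one_smul, KaehlerDifferential.kerToTensor_apply]
    rfl
  haveI : Module.Finite P K := Module.Finite.iff_fg.2 hfgK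
  have hspan : ∀ t : Set G, Submodule.span k ((fun g => (1 : k) ⊗ₜ[P] j g) '' t) = ⊤ ↔
      J = Ideal.span ((fun g : G => v g) '' t) := by
    intro t
    rw [← Submodule.restrictScalars_eq_top_iff P k, Submodule.restrictScalars_span P k Ideal.Quotient.mk_surjective,
      show (fun g => (1 : k) ⊗ₜ[P] j g) '' t = TensorProduct.mk P k K 1 '' (j '' t) by rw [Set.image_image]; rfl,
      ← Submodule.map_span, IsLocalRing.map_tensorProduct_mk_eq_top]
    have himg : Submodule.map (Submodule.subtype K) (Submodule.span P (j '' t)) =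
        Ideal.span ((fun g : G => v g) '' t) := by
      rw [Submodule.map_span, Set.image_image]
      rfl
    constructor
    · intro h
      rw [← himg, h, Submodule.map_top, Submodule.range_subtype]
      exact hker.symm
    · intro h
      apply Submodule.map_injective_of_injective (Submodule.injective_subtype K)
      rw [himg, ← h, Submodule.map_top, Submodule.range_subtype]
      exact hker.symm
  constructor
  · intro hinj
    have htop : Submodule.span k (Set.range fun g => (1 : k) ⊗ₜ[P] j g) = ⊤ := by
      rw [← Set.image_univ, hspan, Set.image_univ, hG]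
      congr 1
      ext x
      simp
    obtain ⟨κ, a, ha, hsp, hli⟩ := exists_linearIndependent' k (fun g : G => (1 : k) ⊗ₜ[P] j g)
    haveI : Finite κ := hli.finite
    haveI := Fintype.ofFinite κ
    refine ⟨Finset.univ.image fun c => ((a c : G) : ι), by simp [Set.range_subset_iff], ?_, ?_⟩
    · have := (hspan (Set.range a)).1 (by rw [← Set.range_comp]; exact hsp.trans htop)
      rw [this]
      congr 1
      ext x
      simp
    · have hli' : LinearIndependent k (fun c => (1 : k) ⊗ₜ[P] KaehlerDifferential.D R P (v (a c))) := by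
        have h := hli.map' φ (LinearMap.ker_eq_bot.2 hinj)
        simpa only [Function.comp_def, hφ] using h
      have hinj' : Function.Injective fun c => ((a c : G) : ι) := Subtype.val_injective.comp ha
      let e : κ ≃ ↥(Finset.univ.image fun c => ((a c : G) : ι)) :=
        (Equiv.ofInjective _ hinj').trans (Equiv.setCongr (by simp))
      exact (linearIndependent_equiv e).1 hli'
  · rintro ⟨s, hs, hJs, hli⟩
    let w : ↥s → G := fun g => ⟨g, hs g.2⟩
    have htop : Submodule.span k (Set.range fun g : ↥s => (1 : k) ⊗ₜ[P] j (w g)) = ⊤ := by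
      rw [show (fun g : ↥s => (1 : k) ⊗ₜ[P] j (w g)) = (fun g : G => (1 : k) ⊗ₜ[P] j g) ∘ w from rfl,
        Set.range_comp, hspan, hJs]
      congr 1
      ext x
      simp only [w, Set.mem_image, Set.mem_range, Finset.mem_coe, exists_exists_eq_and]
      exact ⟨fun ⟨a, ha, e⟩ => ⟨⟨a, ha⟩, e⟩, fun ⟨⟨a, ha⟩, e⟩ => ⟨a, ha, e⟩⟩
    let f := Finsupp.linearCombination k fun g : ↥s => (1 : k) ⊗ₜ[P] j (w g)
    have hf : Function.Surjective f := by
      rw [← LinearMap.range_eq_top, Finsupp.range_linearCombination, htop]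
    have hcomp : φ ∘ₗ f =
        Finsupp.linearCombination k fun g : ↥s => (1 : k) ⊗ₜ[P] KaehlerDifferential.D R P (v g) := by
      refine Finsupp.lhom_ext fun g c => ?_
      show φ (f (Finsupp.single g c)) = _
      simp only [f, Finsupp.linearCombination_single]
      exact (φ.map_smul c _).trans (congrArg (c • ·) (hφ (w g)))
    have h2 : Function.Injective (φ ∘ₗ f) := by rw [hcomp]; exact hli
    exact Function.Injective.of_comp_right h2 hf

/-- Localisation of the quotient is the quotient of the localisation. -/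
lemma formallySmooth_quot_iff (R A : Type u) [CommRing R] [CommRing A] [Algebra R A]
    (I : Ideal A) (P : Ideal (A ⧸ I)) [P.IsPrime] :
    Algebra.FormallySmooth R (Localization.AtPrime P) ↔
      Algebra.FormallySmooth R (Localization.AtPrime (P.comap (Ideal.Quotient.mk I)) ⧸
        I.map (algebraMap A (Localization.AtPrime (P.comap (Ideal.Quotient.mk I))))) := by
  let q := P.comap (Ideal.Quotient.mk I)
  let L := Localization.AtPrime q
  have hM : Algebra.algebraMapSubmonoid (A ⧸ I) q.primeCompl = P.primeCompl := by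
    ext x
    constructor
    · rintro ⟨y, hy, rfl⟩
      exact hy
    · intro hx
      obtain ⟨y, rfl⟩ := Ideal.Quotient.mk_surjective x
      exact ⟨y, hx, rfl⟩
  haveI h0 : IsLocalization (Algebra.algebraMapSubmonoid (A ⧸ I) q.primeCompl)
      (L ⧸ I.map (algebraMap A L)) := inferInstance
  haveI : IsLocalization P.primeCompl (L ⧸ I.map (algebraMap A L)) := hM ▸ h0
  haveI : IsScalarTower R (A ⧸ I) (L ⧸ I.map (algebraMap A L)) := IsScalarTower.of_algebraMap_eq fun r => by
    show Ideal.Quotient.mk _ (algebraMap R L r) = Ideal.Quotient.mk _ (algebraMap A L (algebraMap R A r))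
    rw [← IsScalarTower.algebraMap_apply]
  let e : Localization.AtPrime P ≃ₐ[R] L ⧸ I.map (algebraMap A L) :=
    (IsLocalization.algEquiv P.primeCompl (Localization.AtPrime P) (L ⧸ I.map (algebraMap A L))).restrictScalars R
  exact ⟨fun h => Algebra.FormallySmooth.of_equiv e, fun h => Algebra.FormallySmooth.of_equiv e.symm⟩


/-- In the smooth case generators are detected on the differentials. -/
lemma span_eq_of_smooth (R P : Type u) [CommRing R] [CommRing P] [Algebra R P] [IsLocalRing P]
    [Algebra.FormallySmooth R P] [Module.Free P Ω[P⁄R]] [Module.Finite P Ω[P⁄R]]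
    (J : Ideal P) (hJ : J ≠ ⊤) {ι : Type*} (v : ι → P) (G : Set ι) (hG : J = Ideal.span (v '' G)) (hfg : J.FG)
    (hsm : Algebra.FormallySmooth R (P ⧸ J)) {κ : Type*} (w : κ → G)
    (hw : ∀ g : G, (1 : ResidueField P) ⊗ₜ[P] KaehlerDifferential.D R P (v g) ∈ Submodule.span (ResidueField P)
      (Set.range fun i => (1 : ResidueField P) ⊗ₜ[P] KaehlerDifferential.D R P (v (w i)))) :
    J = Ideal.span (Set.range fun i => v (w i)) := by
  classical
  haveI : Nontrivial (P ⧸ J) := Ideal.Quotient.nontrivial_iff.2 hJ
  haveI : IsLocalRing (P ⧸ J) := IsLocalRing.of_surjective' _ Ideal.Quotient.mk_surjective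
  letI : Algebra (P ⧸ J) (ResidueField P) := (Ideal.Quotient.factor (le_maximalIdeal hJ)).toAlgebra
  haveI : IsScalarTower P (P ⧸ J) (ResidueField P) := IsScalarTower.of_algebraMap_eq fun _ => rfl
  have hker : RingHom.ker (algebraMap P (P ⧸ J)) = J := Ideal.mk_ker
  have hfgK : (RingHom.ker (algebraMap P (P ⧸ J))).FG := hker.symm ▸ hfg
  have hmax : maximalIdeal (P ⧸ J) ≤ RingHom.ker (algebraMap (P ⧸ J) (ResidueField P)) := by
    intro x hx
    obtain ⟨x, rfl⟩ := Ideal.Quotient.mk_surjective x
    show residue P x = 0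
    rw [residue_eq_zero_iff]
    exact fun hu => hx (hu.map _)
  have hinj := (Algebra.FormallySmooth.iff_injective_cotangentComplexBaseChange (S := P ⧸ J) P (ResidueField P)
    Ideal.Quotient.mk_surjective hfgK hmax).1 hsm
  let k := ResidueField P
  let K := RingHom.ker (algebraMap P (P ⧸ J))
  let φ := KaehlerDifferential.cotangentComplexBaseChange R (P ⧸ J) P k
  have hjmem : ∀ g : G, v g ∈ K := fun g => by
    simp only [K, hker, hG]
    exact Ideal.subset_span ⟨g, g.2, rfl⟩
  let j : G → K := fun g => ⟨v g, hjmem g⟩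
  have hφ : ∀ g : G, φ (1 ⊗ₜ j g) = 1 ⊗ₜ KaehlerDifferential.D R P (v g) := fun g => by
    simp only [φ, KaehlerDifferential.cotangentComplexBaseChange_tmul, one_smul, KaehlerDifferential.kerToTensor_apply]
    rfl
  haveI : Module.Finite P K := Module.Finite.iff_fg.2 hfgK
  have hspan : ∀ t : Set G, Submodule.span k ((fun g => (1 : k) ⊗ₜ[P] j g) '' t) = ⊤ ↔
      J = Ideal.span ((fun g : G => v g) '' t) := by
    intro t
    rw [← Submodule.restrictScalars_eq_top_iff P k, Submodule.restrictScalars_span P k Ideal.Quotient.mk_surjective,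
      show (fun g => (1 : k) ⊗ₜ[P] j g) '' t = TensorProduct.mk P k K 1 '' (j '' t) by rw [Set.image_image]; rfl,
      ← Submodule.map_span, IsLocalRing.map_tensorProduct_mk_eq_top]
    have himg : Submodule.map (Submodule.subtype K) (Submodule.span P (j '' t)) =
        Ideal.span ((fun g : G => v g) '' t) := by
      rw [Submodule.map_span, Set.image_image]
      rfl
    constructor
    · intro h
      rw [← himg, h, Submodule.map_top, Submodule.range_subtype]
      exact hker.symm
    · intro h
      apply Submodule.map_injective_of_injective (Submodule.injective_subtype K)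
      rw [himg, ← h, Submodule.map_top, Submodule.range_subtype]
      exact hker.symm
  have htop : Submodule.span k (Set.range fun g => (1 : k) ⊗ₜ[P] j g) = ⊤ := by
    rw [← Set.image_univ, hspan, Set.image_univ, hG]
    congr 1
    ext x
    simp
  have h := (hspan (Set.range w)).1 (by
    rw [eq_top_iff, ← htop, Submodule.span_le]
    rintro _ ⟨g, rfl⟩
    have hmem := hw g
    rw [← hφ g, show (fun i => (1 : ResidueField P) ⊗ₜ[P] KaehlerDifferential.D R P (v (w i))) =
      fun i => φ ((1 : k) ⊗ₜ[P] j (w i)) from funext fun i => (hφ (w i)).symm] at hmem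
    change φ ((1 : k) ⊗ₜ[P] j g) ∈ Submodule.span k (Set.range (φ ∘ fun i => (1 : k) ⊗ₜ[P] j (w i))) at hmem
    rw [Set.range_comp, ← Submodule.map_span] at hmem
    obtain ⟨y, hy, hyg⟩ := hmem
    show (1 : k) ⊗ₜ[P] j g ∈ _
    rw [← hinj hyg, ← Set.range_comp]
    exact hy)
  rw [h, ← Set.range_comp]
  rfl

end Groth.Agent.CAlgA.JacobianCore
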