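import Mathlib.RingTheory.DedekindDomain.IntegralClosure
import Mathlib.RingTheory.Polynomial.RationalRoot
import Mathlib.FieldTheory.PurelyInseparable.Basic
import Mathlib.FieldTheory.SeparableClosure
import Mathlib.FieldTheory.IsAlgClosed.AlgebraicClosure
import Mathlib.RingTheory.Polynomial.UniqueFactorization
import Mathlib.RingTheory.Polynomial.Basic
import Mathlib.Algebra.MvPolynomial.Expand
import Mathlib.RingTheory.FiniteType
import Mathlib.Algebra.CharP.Frobenius
import Mathlib.FieldTheory.Perfect
import Mathlib.Algebra.Polynomial.Lifts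
import Mathlib.RingTheory.Localization.FractionRing

/-! Polynomial rings over fields are N-2. -/

set_option autoImplicit false

namespace CAlgA.N2Field

open MvPolynomial

universe u

attribute [local instance] FractionRing.liftAlgebra FractionRing.isScalarTower_liftAlgebra

theorem exists_root {k k' τ : Type*} [CommRing k] [CommRing k'] (q e : ℕ) [ExpChar (MvPolynomial τ k') q] (φ : k →+* k')
    (p : MvPolynomial τ k) (h : ∀ d ∈ p.support, ∃ r : k', r ^ q ^ e = φ (p.coeff d)) :
    ∃ p' : MvPolynomial τ k', p' ^ q ^ e = (MvPolynomial.expand (q ^ e)).toRingHom.comp (MvPolynomial.map φ) p := by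
  choose! r hr using h
  refine ⟨∑ d ∈ p.support, MvPolynomial.monomial d (r d), ?_⟩
  rw [sum_pow_char_pow q e]
  conv_rhs => rw [MvPolynomial.as_sum p, map_sum]
  refine Finset.sum_congr rfl fun d hd => ?_
  rw [RingHom.comp_apply, MvPolynomial.map_monomial, MvPolynomial.monomial_pow, hr d hd]
  exact (MvPolynomial.expand_monomial (q ^ e) d _).symm

theorem isSeparable_of_lifts {K E Ω : Type*} [Field K] [Field E] [Field Ω] [Algebra K E] [Algebra K Ω] [Algebra E Ω]
    [IsScalarTower K E Ω] (q e : ℕ) [ExpChar E q] [ExpChar Ω q] {f : Polynomial K} (hf : f.Separable)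
    (hlift : f.map (algebraMap K E) ∈ Polynomial.lifts (iterateFrobenius E q e))
    (w : Ω) (hw : Polynomial.aeval (w ^ q ^ e) f = 0) : IsSeparable E w := by
  obtain ⟨g, hg⟩ := (Polynomial.mem_lifts _).1 hlift
  have hgsep : g.Separable := by
    rw [← Polynomial.separable_map (iterateFrobenius E q e), hg]
    exact hf.map
  have hgw : Polynomial.aeval w g = 0 := by
    apply (iterateFrobenius Ω q e).injective
    have hcomm : (iterateFrobenius Ω q e).comp (algebraMap E Ω) = (algebraMap E Ω).comp (iterateFrobenius E q e) :=
      RingHom.ext fun x => ((algebraMap E Ω).map_iterateFrobenius q x e).symm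
    rw [map_zero, Polynomial.aeval_def, Polynomial.hom_eval₂, hcomm, ← Polynomial.eval₂_map, hg, Polynomial.eval₂_map,
      ← IsScalarTower.algebraMap_eq K E Ω, iterateFrobenius_def, ← Polynomial.aeval_def, hw]
  exact hgsep.of_dvd (minpoly.dvd E _ hgw)

theorem mem_range_iterateFrobenius {P P' K E : Type*} [CommRing P] [CommRing P'] [IsDomain P'] [Field K] [Field E]
    [Algebra P K] [Algebra P P'] [FaithfulSMul P P'] [Algebra P' E] [IsFractionRing P' E] [Algebra K E] [Algebra P E]
    [IsScalarTower P K E] [IsScalarTower P P' E] (q e : ℕ) [ExpChar E q] {c : K} {N D : P} {N' D' : P'}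
    (hD0 : D ≠ 0) (h : c * algebraMap P K D = algebraMap P K N) (hN : N' ^ q ^ e = algebraMap P P' N)
    (hD : D' ^ q ^ e = algebraMap P P' D) : algebraMap K E c ∈ Set.range (iterateFrobenius E q e) := by
  have e1 := congrArg (algebraMap K E) h
  rw [map_mul, ← IsScalarTower.algebraMap_apply P K E, ← IsScalarTower.algebraMap_apply P K E,
    IsScalarTower.algebraMap_apply P P' E, IsScalarTower.algebraMap_apply P P' E, ← hN, ← hD, map_pow, map_pow] at e1
  have hD' : algebraMap P' E D' ≠ 0 := by
    rw [map_ne_zero_iff _ (IsFractionRing.injective P' E)]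
    rintro rfl
    rw [zero_pow (pow_ne_zero e (expChar_pos E q).ne'), eq_comm, map_eq_zero_iff _ (FaithfulSMul.algebraMap_injective P P')] at hD
    exact hD0 hD
  refine ⟨algebraMap P' E N' / algebraMap P' E D', ?_⟩
  rw [iterateFrobenius_def, div_pow, div_eq_iff (pow_ne_zero _ hD'), e1]

theorem finite_of_embedding {P P' K L E Ω : Type*} [CommRing P] [IsNoetherianRing P] [CommRing P'] [IsDomain P']
    [IsIntegrallyClosed P'] [IsNoetherianRing P'] [Field K] [Field L] [Field E] [Field Ω] [Algebra P P'] [Module.Finite P P']
    [Algebra P K] [Algebra P L] [Algebra K L] [IsScalarTower P K L] [Algebra P' E] [IsFractionRing P' E] [Algebra K E]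
    [Algebra P Ω] [Algebra P' Ω] [Algebra K Ω] [Algebra E Ω] [IsScalarTower P P' Ω] [IsScalarTower P' E Ω]
    [IsScalarTower K E Ω] [IsScalarTower P K Ω]
    {ι : Type*} [Finite ι] (b : Module.Basis ι K L) (f : L →ₐ[K] Ω) (hsep : ∀ i, IsSeparable E (f (b i))) :
    Module.Finite P (integralClosure P L) := by
  classical
  have := Fintype.ofFinite ι
  let M : IntermediateField E Ω := IntermediateField.adjoin E (Set.range fun i => f (b i))
  have : FiniteDimensional E M := IntermediateField.finiteDimensional_adjoin fun x hx => by
    obtain ⟨i, rfl⟩ := hx; exact (hsep i).isIntegral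
  have : Algebra.IsSeparable E M := (IntermediateField.isSeparable_adjoin_iff_isSeparable E Ω).2 (by rintro _ ⟨i, rfl⟩; exact hsep i)
  have hP' : Module.Finite P' (integralClosure P' M) := IsIntegralClosure.finite P' E M (integralClosure P' M)
  let : Algebra P M := ((algebraMap P' M).comp (algebraMap P P')).toAlgebra
  have : IsScalarTower P P' M := .of_algebraMap_eq fun _ => rfl
  have : Module.Finite P (integralClosure P' M) := Module.Finite.trans P' _
  have hfM : ∀ z, f z ∈ M := fun z => by
    rw [← b.sum_repr z, map_sum]
    refine sum_mem fun i _ => ?_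
    rw [map_smul, Algebra.smul_def, IsScalarTower.algebraMap_apply K E Ω]
    exact mul_mem (M.algebraMap_mem _) (IntermediateField.subset_adjoin E _ ⟨i, rfl⟩)
  let j : integralClosure P L →ₗ[P] integralClosure P' M :=
    { toFun := fun z => ⟨⟨f z.1, hfM _⟩, by
        have h2 : IsIntegral P' (f z.1) := ((z.2 : IsIntegral P z.1).map (f.restrictScalars P)).tower_top
        exact (isIntegral_algHom_iff (M.val.restrictScalars P') Subtype.val_injective).1 h2⟩
      map_add' := fun a b => Subtype.ext (Subtype.ext (map_add f _ _))
      map_smul' := fun p a => Subtype.ext (Subtype.ext (by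
        show f (p • a.1) = ((p • (⟨f a.1, hfM _⟩ : M) : M) : Ω)
        rw [Algebra.smul_def, Algebra.smul_def, map_mul, IsScalarTower.algebraMap_apply P K L, f.commutes,
          ← IsScalarTower.algebraMap_apply P K Ω, IsScalarTower.algebraMap_apply P P' Ω]
        rfl)) }
  exact Module.Finite.of_injective j fun a b h => Subtype.ext (f.injective (congrArg (fun x => x.1.1) h))

set_option maxHeartbeats 1600000 in
theorem finite_integralClosure_mvPolynomial (k : Type u) [Field k] (n : ℕ) (L : Type u) [Field L]
    [Algebra (MvPolynomial (Fin n) k) L] [FaithfulSMul (MvPolynomial (Fin n) k) L]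
    [FiniteDimensional (FractionRing (MvPolynomial (Fin n) k)) L] :
    Module.Finite (MvPolynomial (Fin n) k) (integralClosure (MvPolynomial (Fin n) k) L) := by
  classical
  let P := MvPolynomial (Fin n) k
  let K0 := FractionRing P
  let q := ringExpChar k
  have : ExpChar k q := inferInstance
  have : ExpChar P q := expChar_of_injective_ringHom (MvPolynomial.C_injective (Fin n) k) q
  have : ExpChar K0 q := expChar_of_injective_ringHom (IsFractionRing.injective P K0) q
  let b := Module.finBasis K0 L
  choose ei hei using fun i => IsPurelyInseparable.pow_mem (separableClosure K0 L) q (b i)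
  let e := Finset.univ.sup ei
  let Q := q ^ e
  have hsep : ∀ i, IsSeparable K0 (b i ^ Q) := fun i => by
    obtain ⟨c, hc⟩ := hei i
    have hle : ei i ≤ e := Finset.le_sup (Finset.mem_univ i)
    have : b i ^ Q = ((c ^ (q ^ (e - ei i)) : separableClosure K0 L) : L) := by
      push_cast
      rw [show (c : L) = b i ^ q ^ ei i from hc, ← pow_mul, ← pow_add, Nat.add_sub_cancel' hle]
    rw [this]
    exact mem_separableClosure_iff.1 (c ^ (q ^ (e - ei i))).2
  let f := fun i => minpoly K0 (b i ^ Q)
  choose nd hnd using fun (c : K0) => IsLocalization.surj (nonZeroDivisors P) c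
  let cs : Finset K0 := Finset.univ.biUnion fun i => (Finset.range ((f i).natDegree + 1)).image (f i).coeff
  let ps : Finset P := cs.image (fun c => (nd c).1) ∪ cs.image (fun c => ((nd c).2 : P))
  let T : Finset k := ps.biUnion fun p => p.support.image p.coeff
  have hQ : 0 < Q := pow_pos (expChar_pos k q) e
  choose r hr using fun t : k => IsAlgClosed.exists_pow_nat_eq (algebraMap k (AlgebraicClosure k) t) hQ
  let k' : IntermediateField k (AlgebraicClosure k) := IntermediateField.adjoin k (T.image r : Set (AlgebraicClosure k))
  have : FiniteDimensional k k' := IntermediateField.finiteDimensional_adjoin fun x _ => Algebra.IsIntegral.isIntegral x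
  let P' := MvPolynomial (Fin n) k'
  let σ : P →+* P' := MvPolynomial.eval₂Hom (MvPolynomial.C.comp (algebraMap k k')) fun i => (MvPolynomial.X i) ^ Q
  have : ExpChar k' q := expChar_of_injective_ringHom (algebraMap k k').injective q
  have : ExpChar P' q := expChar_of_injective_ringHom (MvPolynomial.C_injective (Fin n) k') q
  have hσ : σ = (MvPolynomial.expand Q).toRingHom.comp (MvPolynomial.map (algebraMap k k')) := by
    apply MvPolynomial.ringHom_ext <;> intro x <;> simp [σ]
  have hσinj : Function.Injective σ := by
    rw [hσ]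
    exact (MvPolynomial.expand_injective hQ).comp (MvPolynomial.map_injective _ (algebraMap k k').injective)
  have hroot : ∀ p ∈ ps, ∃ p' : P', p' ^ Q = σ p := by
    intro p hp
    have hmem : ∀ d ∈ p.support, r (p.coeff d) ∈ k' := fun d hd => IntermediateField.subset_adjoin k _
      (Finset.mem_coe.2 (Finset.mem_image_of_mem r (Finset.mem_biUnion.2 ⟨p, hp, Finset.mem_image_of_mem _ hd⟩)))
    rw [hσ]
    exact exists_root q e (algebraMap k k') p fun d hd => ⟨⟨r (p.coeff d), hmem d hd⟩,
      Subtype.ext ((SubmonoidClass.coe_pow _ _).trans (hr _))⟩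
  let : Algebra P P' := σ.toAlgebra
  have : FaithfulSMul P P' := (faithfulSMul_iff_algebraMap_injective P P').2 hσinj
  let : Algebra k P' := inferInstance
  have : IsScalarTower k P P' := .of_algebraMap_eq fun c => by
    show _ = σ (algebraMap k P c)
    rw [IsScalarTower.algebraMap_apply k k' P']
    exact (MvPolynomial.eval₂Hom_C (MvPolynomial.C.comp (algebraMap k k')) (fun i => (MvPolynomial.X i : P') ^ Q) c).symm
  have hfin : Module.Finite P P' := by
    have : Algebra.FiniteType k' P' := inferInstance
    have : Algebra.FiniteType k P' := Algebra.FiniteType.trans (S := k') inferInstance this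
    have : Algebra.FiniteType P P' := Algebra.FiniteType.of_restrictScalars_finiteType k P P'
    have : Algebra.IsIntegral P P' := by
      constructor
      intro z
      induction z using MvPolynomial.induction_on with
      | C c =>
        have h : IsIntegral k (MvPolynomial.C c : P') := (Algebra.IsIntegral.isIntegral (R := k) c).map (IsScalarTower.toAlgHom k k' P')
        exact h.tower_top
      | add a b ha hb => exact ha.add hb
      | mul_X a i ha =>
        refine ha.mul ((IsIntegral.of_pow hQ ?_))
        have : (MvPolynomial.X i : P') ^ Q = algebraMap P P' (MvPolynomial.X i) := by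
          exact (MvPolynomial.eval₂Hom_X' (MvPolynomial.C.comp (algebraMap k k')) (fun i => (MvPolynomial.X i : P') ^ Q) i).symm
        rw [this]
        exact isIntegral_algebraMap
    exact Algebra.IsIntegral.finite
  let E := FractionRing P'
  let Ω := AlgebraicClosure E
  have : ExpChar E q := expChar_of_injective_ringHom (IsFractionRing.injective P' E) q
  have : ExpChar Ω q := expChar_of_injective_ringHom (algebraMap E Ω).injective q
  let : Algebra K0 E := FractionRing.liftAlgebra P E
  have : IsScalarTower P K0 Ω := .of_algebraMap_eq fun p => by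
    rw [IsScalarTower.algebraMap_apply K0 E Ω, ← IsScalarTower.algebraMap_apply P K0 E, ← IsScalarTower.algebraMap_apply P E Ω]
  let ι : L →ₐ[K0] Ω := IsAlgClosed.lift
  have hwsep : ∀ i, IsSeparable E (ι (b i)) := by
    intro i
    have hlift : (f i).map (algebraMap K0 E) ∈ Polynomial.lifts (iterateFrobenius E q e) := by
      rw [Polynomial.lifts_iff_coeff_lifts]
      intro m
      rw [Polynomial.coeff_map]
      by_cases hm : m ≤ (f i).natDegree
      · have hc : (f i).coeff m ∈ cs := Finset.mem_biUnion.2 ⟨i, Finset.mem_univ i, Finset.mem_image_of_mem _ (Finset.mem_range.2 (Nat.lt_succ_of_le hm))⟩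
        obtain ⟨N', hN⟩ := hroot _ (Finset.mem_union_left _ (Finset.mem_image_of_mem _ hc))
        obtain ⟨D', hD⟩ := hroot _ (Finset.mem_union_right _ (Finset.mem_image_of_mem _ hc))
        exact mem_range_iterateFrobenius q e (nonZeroDivisors.ne_zero (nd _).2.2) (hnd _) hN hD
      · exact ⟨0, by rw [Polynomial.coeff_eq_zero_of_natDegree_lt (not_le.1 hm), map_zero, map_zero]⟩
    have hw : Polynomial.aeval ((ι (b i)) ^ Q) (f i) = 0 := by
      rw [← map_pow, Polynomial.aeval_algHom_apply, minpoly.aeval, map_zero]
    exact isSeparable_of_lifts (K := K0) (E := E) (Ω := Ω) (f := f i) q e (hsep i) hlift (ι (b i)) hw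
  have : IsIntegrallyClosed P' := UniqueFactorizationMonoid.instIsIntegrallyClosed
  exact finite_of_embedding (P := P) (P' := P') (K := K0) (E := E) b ι hwsep

end CAlgA.N2Field
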