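import Groth.Agent.CAlgA.JacobianCore
import Mathlib

/-! Jacobian vectors of polynomials and smoothness of quotients of polynomial rings. -/

set_option autoImplicit false
universe u

namespace Groth.Agent.CAlgA.PolyJacobian

open TensorProduct IsLocalRing KaehlerDifferential

variable {R : Type u} [CommRing R] {n : ℕ}

/-- The rows of a matrix are independent iff some maximal minor is nonzero. -/
lemma rows_linearIndependent_iff {k : Type u} [Field k] {c : ℕ} (M : Matrix (Fin c) (Fin n) k) :
    LinearIndependent k M.row ↔ ∃ I : Fin c ↪ Fin n, (Matrix.of fun i j => M i (I j)).det ≠ 0 := by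
  constructor
  · intro h
    have hrank : M.rank = c := by
      rw [h.rank_matrix, Fintype.card_fin]
    have hspan : Submodule.span k (Set.range M.col) = ⊤ := by
      apply Submodule.eq_top_of_finrank_eq
      rw [← Matrix.rank_eq_finrank_span_cols, hrank, Module.finrank_fin_fun]
    obtain ⟨κ, a, ha, hsp, hli⟩ := exists_linearIndependent' k M.col
    haveI : Finite κ := Finite.of_injective a ha
    haveI := Fintype.ofFinite κ
    let b := Module.Basis.mk hli (by rw [hsp, hspan])
    have hcard : Fintype.card κ = c := by
      rw [← Module.finrank_eq_card_basis b, Module.finrank_fin_fun]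
    let e : Fin c ≃ κ := (Fintype.equivFinOfCardEq hcard).symm
    refine ⟨⟨a ∘ e, ha.comp e.injective⟩, ?_⟩
    have h2 : LinearIndependent k (Matrix.of fun i j => M i ((a ∘ e) j)).col := hli.comp e e.injective
    rw [Matrix.linearIndependent_cols_iff_isUnit, Matrix.isUnit_iff_isUnit_det, isUnit_iff_ne_zero] at h2
    exact h2
  · rintro ⟨I, hI⟩
    exact LinearIndependent.of_comp (LinearMap.funLeft k k I) (Matrix.linearIndependent_rows_of_det_ne_zero hI)

/-- The Jacobian vector of a polynomial, evaluated along `ψ`. -/
noncomputable def jac {K : Type u} [CommRing K] (ψ : MvPolynomial (Fin n) R →+* K)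
    (g : MvPolynomial (Fin n) R) : Fin n → K := fun i => ψ (MvPolynomial.pderiv i g)

/-- Independence of Jacobian vectors only depends on the kernel of the evaluation. -/
lemma li_iff_minor {K : Type u} [Field K] (ψ : MvPolynomial (Fin n) R →+* K) {c : ℕ}
    (F : Fin c → MvPolynomial (Fin n) R) :
    LinearIndependent K (fun i => jac ψ (F i)) ↔ ∃ I : Fin c ↪ Fin n,
      (Matrix.of fun i j => MvPolynomial.pderiv (I j) (F i)).det ∉ RingHom.ker ψ := by
  rw [show (fun i => jac ψ (F i)) = (Matrix.of fun i => jac ψ (F i)).row from rfl, rows_linearIndependent_iff]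
  refine exists_congr fun I => ?_
  rw [RingHom.mem_ker, RingHom.map_det]
  exact Iff.rfl

/-- Membership in the span of Jacobian vectors descends to a smaller field. -/
lemma mem_span_of_mem_span {K K' : Type u} [Field K] [Field K'] (ψ : MvPolynomial (Fin n) R →+* K)
    (ψ' : MvPolynomial (Fin n) R →+* K') (hker : RingHom.ker ψ = RingHom.ker ψ') {c : ℕ}
    (F : Fin c → MvPolynomial (Fin n) R) (hli : LinearIndependent K (fun i => jac ψ (F i)))
    (x : MvPolynomial (Fin n) R) (hx : jac ψ x ∈ Submodule.span K (Set.range fun i => jac ψ (F i))) :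
    jac ψ' x ∈ Submodule.span K' (Set.range fun i => jac ψ' (F i)) := by
  by_contra h
  have hli' : LinearIndependent K' (fun i => jac ψ' (F i)) := by
    rw [li_iff_minor, ← hker, ← li_iff_minor]
    exact hli
  have hcons : LinearIndependent K' (fun i => jac ψ' ((Fin.cons x F : Fin (c + 1) → _) i)) := by
    have : (fun i => jac ψ' ((Fin.cons x F : Fin (c + 1) → _) i)) =
        Fin.cons (jac ψ' x) fun i => jac ψ' (F i) := by
      funext i
      cases i using Fin.cases <;> simp
    rw [this, linearIndependent_finCons]
    exact ⟨hli', h⟩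
  rw [li_iff_minor, ← hker, ← li_iff_minor] at hcons
  have : (fun i => jac ψ ((Fin.cons x F : Fin (c + 1) → _) i)) = Fin.cons (jac ψ x) fun i => jac ψ (F i) := by
    funext i
    cases i using Fin.cases <;> simp
  rw [this, linearIndependent_finCons] at hcons
  exact hcons.2 hx

section Local

variable (q : Ideal (MvPolynomial (Fin n) R)) [q.IsPrime]

instance free_kaehler : Module.Free (Localization.AtPrime q) Ω[Localization.AtPrime q⁄R] :=
  haveI : Module.Free (MvPolynomial (Fin n) R) Ω[MvPolynomial (Fin n) R⁄R] :=
    Module.Free.of_basis (mvPolynomialBasis R (Fin n))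
  Module.Free.of_equiv (tensorKaehlerEquivOfFormallyEtale R (MvPolynomial (Fin n) R) (Localization.AtPrime q))

instance finite_kaehler : Module.Finite (Localization.AtPrime q) Ω[Localization.AtPrime q⁄R] :=
  haveI : Module.Finite (MvPolynomial (Fin n) R) Ω[MvPolynomial (Fin n) R⁄R] :=
    Module.Finite.of_basis (mvPolynomialBasis R (Fin n))
  Module.Finite.equiv (tensorKaehlerEquivOfFormallyEtale R (MvPolynomial (Fin n) R) (Localization.AtPrime q))

instance formallySmooth_localization : Algebra.FormallySmooth R (Localization.AtPrime q) :=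
  haveI : Algebra.FormallySmooth (MvPolynomial (Fin n) R) (Localization.AtPrime q) := inferInstance
  Algebra.FormallySmooth.comp R (MvPolynomial (Fin n) R) (Localization.AtPrime q)

/-- Differentials at a point are Jacobian vectors. -/
lemma exists_jacEquiv : ∃ e : q.ResidueField ⊗[Localization.AtPrime q] Ω[Localization.AtPrime q⁄R] ≃ₗ[q.ResidueField]
    (Fin n → q.ResidueField), ∀ g : MvPolynomial (Fin n) R,
      e (1 ⊗ₜ KaehlerDifferential.D R (Localization.AtPrime q) (algebraMap _ (Localization.AtPrime q) g)) =
        jac (algebraMap (MvPolynomial (Fin n) R) q.ResidueField) g := by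
  let A := MvPolynomial (Fin n) R
  let L := Localization.AtPrime q
  let k := q.ResidueField
  let eΩ : k ⊗[A] Ω[A⁄R] ≃ₗ[k] k ⊗[L] Ω[L⁄R] :=
    (AlgebraTensorModule.cancelBaseChange A L k k Ω[A⁄R]).symm.trans
      (AlgebraTensorModule.congr (LinearEquiv.refl k k) (tensorKaehlerEquivOfFormallyEtale R A L))
  let b := (mvPolynomialBasis R (Fin n)).baseChange k
  refine ⟨eΩ.symm.trans b.equivFun, fun g => ?_⟩
  have he : eΩ (1 ⊗ₜ KaehlerDifferential.D R A g) = 1 ⊗ₜ KaehlerDifferential.D R L (algebraMap A L g) := by
    simp [eΩ]
    exact congrArg _ (one_smul L (KaehlerDifferential.D R L (algebraMap A L g)))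
  rw [← he, LinearEquiv.trans_apply, LinearEquiv.symm_apply_apply]
  funext j
  simp [b, jac]
  erw [Module.Basis.baseChange_repr_tmul, mvPolynomialBasis_repr_apply]
  rw [Algebra.smul_def, mul_one]

/-- A quotient by polynomials with independent Jacobian vectors at `q` is smooth at `q`. -/
lemma smooth_of_li {c : ℕ} (F : Fin c → MvPolynomial (Fin n) R) (hF : ∀ i, F i ∈ q)
    (hli : LinearIndependent q.ResidueField (fun i => jac (algebraMap _ q.ResidueField) (F i))) :
    Algebra.FormallySmooth R (Localization.AtPrime q ⧸
      (Ideal.span (Set.range F)).map (algebraMap _ (Localization.AtPrime q))) := by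
  obtain ⟨e, he⟩ := exists_jacEquiv q
  have hne : (Ideal.span (Set.range F)).map (algebraMap _ (Localization.AtPrime q)) ≠ ⊤ := fun h => by
    have hle : (Ideal.span (Set.range F)).map (algebraMap _ (Localization.AtPrime q)) ≤
        maximalIdeal (Localization.AtPrime q) := by
      rw [← Localization.AtPrime.map_eq_maximalIdeal]
      exact Ideal.map_mono (Ideal.span_le.2 (Set.range_subset_iff.2 hF))
    rw [h, top_le_iff] at hle
    exact (maximalIdeal.isMaximal _).ne_top hle
  refine (JacobianCore.core R (Localization.AtPrime q) _ hne (fun i => algebraMap _ (Localization.AtPrime q) (F i))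
    Set.univ ?_ (Ideal.FG.map (Submodule.fg_span (Set.finite_range F)) _)).2
    ⟨Finset.univ, Set.subset_univ _, ?_, ?_⟩
  · simp only [Ideal.map_span, ← Set.range_comp, Set.image_univ]
    rfl
  · simp only [Finset.coe_univ, Ideal.map_span, ← Set.range_comp, Set.image_univ]
    rfl
  · refine LinearIndependent.comp (v := fun i : Fin c => (1 : q.ResidueField) ⊗ₜ[Localization.AtPrime q]
      KaehlerDifferential.D R (Localization.AtPrime q) (algebraMap _ (Localization.AtPrime q) (F i))) ?_
      Subtype.val Subtype.val_injective
    apply LinearIndependent.of_comp e.toLinearMap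
    simpa only [Function.comp_def, LinearEquiv.coe_coe, he] using hli

/-- Generators of the ideal at a smooth point are detected on Jacobian vectors. -/
lemma span_eq_of_smooth (I : Ideal (MvPolynomial (Fin n) R)) (hI : I.FG) (hle : I ≤ q)
    (hsm : Algebra.FormallySmooth R (Localization.AtPrime q ⧸ I.map (algebraMap _ (Localization.AtPrime q))))
    {c : ℕ} (F : Fin c → MvPolynomial (Fin n) R) (hF : ∀ i, F i ∈ I)
    (hspan : ∀ x ∈ I, jac (algebraMap _ q.ResidueField) x ∈
      Submodule.span q.ResidueField (Set.range fun i => jac (algebraMap _ q.ResidueField) (F i))) :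
    I.map (algebraMap _ (Localization.AtPrime q)) =
      (Ideal.span (Set.range F)).map (algebraMap _ (Localization.AtPrime q)) := by
  obtain ⟨e, he⟩ := exists_jacEquiv q
  have hne : I.map (algebraMap _ (Localization.AtPrime q)) ≠ ⊤ := fun h => by
    have hle' : I.map (algebraMap _ (Localization.AtPrime q)) ≤ maximalIdeal (Localization.AtPrime q) := by
      rw [← Localization.AtPrime.map_eq_maximalIdeal]
      exact Ideal.map_mono hle
    rw [h, top_le_iff] at hle'
    exact (maximalIdeal.isMaximal _).ne_top hle'
  rw [JacobianCore.span_eq_of_smooth R (Localization.AtPrime q) _ hne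
    (algebraMap (MvPolynomial (Fin n) R) (Localization.AtPrime q)) (I : Set _) rfl (Ideal.FG.map hI _) hsm
    (fun i : Fin c => (⟨F i, hF i⟩ : (I : Set (MvPolynomial (Fin n) R)))) ?_, Ideal.map_span, ← Set.range_comp]
  · rfl
  intro g
  have h := Submodule.mem_map_of_mem (f := e.symm.toLinearMap) (hspan g g.2)
  rw [Submodule.map_span, ← Set.range_comp, ← he g] at h
  simpa only [Function.comp_def, LinearEquiv.coe_coe, ← he, LinearEquiv.symm_apply_apply] using h

end Local

end Groth.Agent.CAlgA.PolyJacobian
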