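import Groth.Agent.FlatOpen.Descend
import Mathlib

/-!
# Syzygies of relatively flat finitely presented modules

For a finitely presented algebra `A → B` and a finitely presented `B`-module `M` that is flat over `A`,
`M` is a quotient of some `B^r` by a finitely presented submodule, which is again flat over `A` when
`B` is.  (Reduction to a Noetherian model, EGA IV 11.2.7.)
-/

set_option autoImplicit false
set_option linter.style.haveILetI false

universe u

open TensorProduct Function

namespace Groth.Agent.CAlgA.RelSyzygy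

/-- Finite presentation descends along a surjective ring map. -/
theorem finitePresentation_of_surjective_algebraMap {P B K : Type u} [CommRing P] [CommRing B] [Algebra P B]
    [AddCommGroup K] [Module P K] [Module B K] [IsScalarTower P B K]
    (h : Surjective (algebraMap P B)) [Module.FinitePresentation P K] : Module.FinitePresentation B K := by
  haveI : Module.Finite B K := Module.Finite.of_restrictScalars_finite P B K
  obtain ⟨s, q, hq⟩ := Module.Finite.exists_fin' B K
  let ρ : (Fin s → P) →ₗ[P] (Fin s → B) := LinearMap.pi fun i => Algebra.linearMap P B ∘ₗ LinearMap.proj i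
  have hρ : Surjective ρ := fun v => ⟨fun i => (h (v i)).choose, funext fun i => (h (v i)).choose_spec⟩
  obtain ⟨G, hG⟩ := Module.FinitePresentation.fg_ker (q.restrictScalars P ∘ₗ ρ) (hq.comp hρ)
  refine Module.finitePresentation_of_free_of_surjective q hq ?_
  classical
  refine ⟨G.image ρ, le_antisymm (Submodule.span_le.2 ?_) fun v hv => ?_⟩
  · rw [Finset.coe_image]
    rintro - ⟨w, hw, rfl⟩
    exact hG.le (Submodule.subset_span hw)
  · obtain ⟨w, rfl⟩ := hρ v
    have hw : w ∈ Submodule.span P (G : Set (Fin s → P)) := hG.ge hv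
    have := Submodule.apply_mem_span_image_of_mem_span ρ hw
    rw [← Finset.coe_image] at this
    exact Submodule.span_le_restrictScalars P B _ this

/-- Kernels of surjections between flat modules are flat. -/
theorem flat_ker {A F M : Type u} [CommRing A] [AddCommGroup F] [Module A F] [AddCommGroup M] [Module A M]
    [Module.Flat A F] [Module.Flat A M] (f : F →ₗ[A] M) (hf : Surjective f) :
    Module.Flat A (LinearMap.ker f) := by
  rw [Module.Flat.iff_rTensor_preserves_injective_linearMap]
  intro N N' _ _ _ _ g hg
  have hK : ∀ (X : Type u) [AddCommGroup X] [Module A X],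
      Injective ((LinearMap.ker f).subtype.lTensor X) := fun X _ _ =>
    LinearMap.lTensor_injective_of_exact_of_flat f hf _ (LinearMap.ker f).subtype_injective
      (LinearMap.exact_subtype_ker_map f) X
  have h1 := Module.Flat.rTensor_preserves_injective_linearMap (M := F) g hg
  refine Injective.of_comp (f := (LinearMap.ker f).subtype.lTensor N') ?_
  rw [← LinearMap.coe_comp, LinearMap.lTensor_comp_rTensor, ← LinearMap.rTensor_comp_lTensor, LinearMap.coe_comp]
  exact h1.comp (hK N)

open FlatOpen

variable {n r : ℕ} {R₁ : Type u} [CommRing R₁] (Z : Submodule (MvPolynomial (Fin n) R₁) (Vec n r R₁))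

/-- If `R₁` is Noetherian and `R₁[x]^r / Z` is flat, the base change of `Z` is the extended submodule,
which is thus finitely presented. -/
theorem finitePresentation_ext [IsNoetherianRing R₁] (R : Type u) [CommRing R] [Algebra R₁ R]
    [Module.Flat R₁ (Vec n r R₁ ⧸ Z)] : Module.FinitePresentation (MvPolynomial (Fin n) R) (ext R Z) := by
  let P₁ := MvPolynomial (Fin n) R₁
  let P := MvPolynomial (Fin n) R
  letI := MvPolynomial.algebraMvPolynomial (σ := Fin n) (R := R₁) (S := R)
  haveI : Module.FinitePresentation P₁ Z := Module.finitePresentation_of_finite P₁ Z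
  let ι : Z →ₗ[P₁] Vec n r R :=
    { toFun := fun z => mapVec R (z : Vec n r R₁)
      map_add' := fun a b => map_add (mapVec R) (a : Vec n r R₁) b
      map_smul' := fun p a => by
        rw [RingHom.id_apply, Submodule.coe_smul, mapVec_smul]
        exact algebraMap_smul P p _ }
  let θ : P ⊗[P₁] Z →ₗ[P] Vec n r R := ι.liftBaseChange P
  have hθ : ∀ (p : P) (z : Z), θ (p ⊗ₜ z) = p • mapVec R (z : Vec n r R₁) := fun p z =>
    LinearMap.liftBaseChange_tmul P ι p z
  have hrange : LinearMap.range θ = ext R Z := by
    refine le_antisymm ?_ (Submodule.span_le.2 ?_)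
    · rintro - ⟨w, rfl⟩
      induction w with
      | zero => rw [map_zero]; exact zero_mem _
      | tmul p z => rw [hθ]; exact Submodule.smul_mem _ _ (mapVec_mem_ext R Z z.2)
      | add a b ha hb => rw [map_add]; exact add_mem ha hb
    · rintro - ⟨z, hz, rfl⟩
      exact ⟨1 ⊗ₜ ⟨z, hz⟩, by rw [hθ, one_smul]⟩
  -- the comparison with `R ⊗ Z`
  let η : R ⊗[R₁] Z →+ P ⊗[P₁] Z := TensorProduct.liftAddHom
    (AddMonoidHom.mk' (fun a => AddMonoidHom.mk' (fun z => (MvPolynomial.C a : P) ⊗ₜ[P₁] z)
      fun z w => TensorProduct.tmul_add _ z w) fun a b => by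
      ext z
      simp [map_add, TensorProduct.add_tmul])
    fun c a z => by
      simp only [AddMonoidHom.mk'_apply]
      rw [← IsScalarTower.algebraMap_smul P₁ c z, TensorProduct.tmul_smul, TensorProduct.smul_tmul',
        MvPolynomial.algebraMap_eq, Algebra.smul_def, Algebra.smul_def, map_mul]
      congr 1
      exact (congrArg (· * _) (MvPolynomial.map_C _ c)).symm
  have hη : Surjective η := by
    intro w
    induction w with
    | zero => exact ⟨0, map_zero η⟩
    | tmul p z =>
      induction p using MvPolynomial.induction_on generalizing z with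
      | C a => exact ⟨a ⊗ₜ z, rfl⟩
      | add p q hp hq =>
        obtain ⟨w, hw⟩ := hp z
        obtain ⟨w', hw'⟩ := hq z
        exact ⟨w + w', by rw [map_add, hw, hw', TensorProduct.add_tmul]⟩
      | mul_X p i hp =>
        obtain ⟨w, hw⟩ := hp ((MvPolynomial.X i : P₁) • z)
        refine ⟨w, hw.trans ?_⟩
        rw [TensorProduct.tmul_smul, TensorProduct.smul_tmul', Algebra.smul_def, mul_comm]
        congr 1
        exact congrArg (p * ·) (MvPolynomial.map_X _ i)
    | add a b ha hb =>
      obtain ⟨x, rfl⟩ := ha
      obtain ⟨y, rfl⟩ := hb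
      exact ⟨x + y, map_add η x y⟩
  let sub : R ⊗[R₁] Z →ₗ[R₁] R ⊗[R₁] Vec n r R₁ := (Z.subtype.restrictScalars R₁).lTensor R
  have hsub : Injective sub :=
    LinearMap.lTensor_injective_of_exact_of_flat (Z.mkQ.restrictScalars R₁) Z.mkQ_surjective _
      Z.subtype_injective (LinearMap.exact_subtype_mkQ Z) R
  have hcomp : ∀ w, θ (η w) = vecEquiv R (sub w) := by
    intro w
    induction w with
    | zero => simp
    | tmul a z =>
      show θ ((MvPolynomial.C a : P) ⊗ₜ[P₁] z) = _
      rw [hθ, show sub (a ⊗ₜ z) = a ⊗ₜ (z : Vec n r R₁) from rfl, vecEquiv_tmul, ← MvPolynomial.algebraMap_eq,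
        algebraMap_smul]
    | add a b ha hb => rw [map_add, map_add, map_add, map_add, ha, hb]
  have hinj : Injective θ := by
    intro x y hxy
    obtain ⟨x, rfl⟩ := hη x
    obtain ⟨y, rfl⟩ := hη y
    rw [hcomp, hcomp] at hxy
    exact congrArg η (hsub ((vecEquiv R).injective hxy))
  exact Module.finitePresentation_of_surjective
    ((LinearEquiv.ofInjective θ hinj).trans (LinearEquiv.ofEq _ _ hrange)).toLinearMap
    (LinearEquiv.surjective _) (by rw [LinearEquiv.ker]; exact Submodule.fg_bot)

/-- A presentation with finitely presented kernel. -/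
theorem exists_fp_syzygy (A B M : Type u) [CommRing A] [CommRing B] [Algebra A B]
    [Algebra.FinitePresentation A B] [AddCommGroup M] [Module B M] [Module A M]
    [IsScalarTower A B M] [Module.FinitePresentation B M] [Module.Flat A M] :
    ∃ (r : ℕ) (p : (Fin r → B) →ₗ[B] M), Surjective p ∧ Module.FinitePresentation B (LinearMap.ker p) := by
  classical
  obtain ⟨n, r, R₀, Z₀, π, E, hR₀, hπ, hE⟩ := exists_presentation_model A B M
  haveI : IsNoetherianRing R₀ := isNoetherianRing_of_fg hR₀
  haveI : Module.Flat A (Quot A Z₀) := Module.Flat.of_linearEquiv E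
  obtain ⟨R₁, hR₁, hflat⟩ := exists_model_flat_all Z₀ A
  haveI : IsNoetherianRing R₁ := isNoetherianRing_of_fg hR₁
  have hfp := finitePresentation_ext (ext R₁ Z₀) A
  rw [ext_ext] at hfp
  let P := MvPolynomial (Fin n) A
  letI : Algebra P B := π.toRingHom.toAlgebra
  haveI : IsScalarTower A P B := IsScalarTower.of_algebraMap_eq fun a => (π.commutes a).symm
  let e : Fin r → M := fun i => E (Submodule.Quotient.mk (Pi.single i 1))
  let p : (Fin r → B) →ₗ[B] M := Fintype.linearCombination B e
  let ρ : Vec n r A →ₗ[P] (Fin r → B) := LinearMap.pi fun i => Algebra.linearMap P B ∘ₗ LinearMap.proj i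
  have hρ : Surjective ρ := fun v => ⟨fun i => (hπ (v i)).choose, funext fun i => (hπ (v i)).choose_spec⟩
  have hpρ : ∀ v : Vec n r A, p (ρ v) = E (Submodule.Quotient.mk v) := by
    intro v
    conv_rhs => rw [pi_eq_sum_univ' v, ← Submodule.mkQ_apply, map_sum, map_sum]
    rw [Fintype.linearCombination_apply]
    refine Finset.sum_congr rfl fun i _ => ?_
    rw [map_smul, hE]
    rfl
  have hp : Surjective p := fun m => by
    obtain ⟨v, hv⟩ := (ext A Z₀).mkQ_surjective (E.symm m)
    exact ⟨ρ v, by rw [hpρ, ← Submodule.mkQ_apply, hv, E.apply_symm_apply]⟩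
  refine ⟨r, p, hp, ?_⟩
  have hmem : ∀ v : Vec n r A, v ∈ ext A Z₀ ↔ ρ v ∈ LinearMap.ker p := fun v => by
    rw [LinearMap.mem_ker, hpρ, EmbeddingLike.map_eq_zero_iff, Submodule.Quotient.mk_eq_zero]
  let σ : ext A Z₀ →ₗ[P] LinearMap.ker p :=
    { toFun := fun v => ⟨ρ v, (hmem v).1 v.2⟩
      map_add' := fun a b => Subtype.ext (map_add ρ (a : Vec n r A) b)
      map_smul' := fun c a => Subtype.ext (map_smul ρ c (a : Vec n r A)) }
  have hσ : Surjective σ := fun k => by
    obtain ⟨v, hv⟩ := hρ k.1
    exact ⟨⟨v, (hmem v).2 (hv ▸ k.2)⟩, Subtype.ext hv⟩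
  haveI : Module.FinitePresentation P B :=
    Module.finitePresentation_of_surjective (Algebra.linearMap P B) hπ (by
      obtain ⟨n', π', hπ', hk'⟩ := (inferInstance : Algebra.FinitePresentation A B).out
      rw [show LinearMap.ker (Algebra.linearMap P B) = RingHom.ker π.toRingHom from by ext x; rfl]
      exact Algebra.FinitePresentation.ker_fg_of_mvPolynomial π hπ)
  haveI : Module.FinitePresentation P (ext A Z₀) := hfp
  have hρker : (LinearMap.ker ρ).FG := Module.FinitePresentation.fg_ker ρ hρ
  have hσker : (LinearMap.ker σ).FG := by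
    refine Submodule.fg_of_fg_map_injective (ext A Z₀).subtype (Submodule.subtype_injective _) ?_
    rw [show (LinearMap.ker σ).map (ext A Z₀).subtype = LinearMap.ker ρ from ?_]
    · exact hρker
    ext v
    constructor
    · rintro ⟨w, hw, rfl⟩
      exact congrArg Subtype.val (LinearMap.mem_ker.1 hw)
    · intro hv
      exact ⟨⟨v, (hmem v).2 (by rw [LinearMap.mem_ker.1 hv]; exact zero_mem _)⟩, Subtype.ext hv, rfl⟩
  haveI : Module.FinitePresentation P (LinearMap.ker p) := Module.finitePresentation_of_surjective σ hσ hσker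
  exact finitePresentation_of_surjective_algebraMap (P := P) hπ

end Groth.Agent.CAlgA.RelSyzygy
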