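import Mathlib.RingTheory.Smooth.Field
import Mathlib.RingTheory.Etale.Kaehler
import Mathlib.RingTheory.Kaehler.Polynomial
import Mathlib.RingTheory.AlgebraicIndependent.TranscendenceBasis
import Mathlib.RingTheory.Localization.Basic
import Mathlib.FieldTheory.Perfect

/-! Differentials of separating transcendence bases, universe polymorphic. -/

namespace CAlgA

open KaehlerDifferential

open scoped IntermediateField.algebraAdjoinAdjoin in
/-- The differentials of a separating transcendence basis form a basis. -/
theorem exists_basis_kaehler {K L ι : Type*} [Field K] [Field L] [Algebra K L] {v : ι → L}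
    (hv : AlgebraicIndependent K v)
    [Algebra.IsSeparable (IntermediateField.adjoin K (Set.range v)) L] :
    ∃ b : Module.Basis ι L (Ω[L⁄K]), ∀ i, b i = D K L (v i) := by
  let P := MvPolynomial ι K
  let A0 := Algebra.adjoin K (Set.range v)
  let F := IntermediateField.adjoin K (Set.range v)
  let e : P ≃ₐ[K] A0 := hv.aevalEquiv
  let _ : Algebra P F := ((algebraMap A0 F).comp e.toRingEquiv.toRingHom).toAlgebra
  let _ : Algebra P L := (MvPolynomial.aeval v).toRingHom.toAlgebra
  have : IsScalarTower P F L := .of_algebraMap_eq fun q => (hv.algebraMap_aevalEquiv q).symm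
  have : IsScalarTower K P L := .of_algebraMap_eq fun r => by
    show algebraMap K L r = MvPolynomial.aeval v (algebraMap K P r)
    rw [AlgHom.commutes]
  have hloc : IsLocalization (nonZeroDivisors P) F := by
    have h := IsLocalization.isLocalization_of_base_ringEquiv (nonZeroDivisors A0) F e.toRingEquiv.symm
    have hmap : (nonZeroDivisors A0).map e.toRingEquiv.symm.toMonoidHom = nonZeroDivisors P :=
      MulEquivClass.map_nonZeroDivisors e.toRingEquiv.symm
    rw [← hmap]
    exact h
  have : Algebra.FormallyEtale P F := .of_isLocalization (nonZeroDivisors P)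
  have : Algebra.FormallyEtale F L := Algebra.FormallyEtale.of_isSeparable F L
  have : Algebra.FormallyEtale P L := .comp P F L
  refine ⟨((mvPolynomialBasis K ι).baseChange L).map
    (tensorKaehlerEquivOfFormallyEtale K P L), fun i => ?_⟩
  rw [Module.Basis.map_apply, Module.Basis.baseChange_apply, mvPolynomialBasis_apply,
    tensorKaehlerEquivOfFormallyEtale_apply, mapBaseChange_tmul, one_smul, map_D]
  exact congrArg (D K L) (MvPolynomial.aeval_X v i)

end CAlgA
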