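import Mathlib.RingTheory.Trace.Quotient
import Mathlib.RingTheory.RamificationInertia.Ramification
import Mathlib.LinearAlgebra.Trace
import Mathlib.LinearAlgebra.Isomorphisms
import Mathlib.RingTheory.Finiteness.Quotient

/-! Trace of a quotient of a finite algebra through the factors of the ideal. -/

set_option autoImplicit false

namespace CAlgA.TraceFactors

section Linear

variable {K U V W : Type*} [Field K] [AddCommGroup U] [Module K U] [AddCommGroup V] [Module K V]
  [AddCommGroup W] [Module K W] [FiniteDimensional K U] [FiniteDimensional K V] [FiniteDimensional K W]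

theorem trace_of_exact {f : U →ₗ[K] V} {g : V →ₗ[K] W} (hf : Function.Injective f) (hg : Function.Surjective g)
    (h : Function.Exact f g) {a : U →ₗ[K] U} {b : V →ₗ[K] V} {c : W →ₗ[K] W}
    (hab : b ∘ₗ f = f ∘ₗ a) (hbc : g ∘ₗ b = c ∘ₗ g) :
    LinearMap.trace K V b = LinearMap.trace K U a + LinearMap.trace K W c := by
  obtain ⟨s, hs⟩ := LinearMap.exists_rightInverse_of_surjective g (LinearMap.range_eq_top.2 hg)
  obtain ⟨r₀, hr₀⟩ := LinearMap.exists_leftInverse_of_injective f (LinearMap.ker_eq_bot.2 hf)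
  let r : V →ₗ[K] U := r₀ ∘ₗ (LinearMap.id - s ∘ₗ g)
  have hgs : ∀ w, g (s w) = w := fun w => LinearMap.congr_fun hs w
  have hr0 : ∀ u, r₀ (f u) = u := fun u => LinearMap.congr_fun hr₀ u
  have hgf : ∀ u, g (f u) = 0 := fun u => h.apply_apply_eq_zero u
  have hid : f ∘ₗ r + s ∘ₗ g = LinearMap.id := by
    ext v
    obtain ⟨u, hu⟩ := (h (v - s (g v))).1 (by rw [map_sub, hgs, sub_self])
    simp [r, ← hu, hr0]
    rw [hu, sub_add_cancel]
  have hrf : r ∘ₗ f = LinearMap.id := by ext u; simp [r, hgf, hr0]
  calc LinearMap.trace K V b = LinearMap.trace K V (b ∘ₗ f ∘ₗ r) + LinearMap.trace K V (b ∘ₗ s ∘ₗ g) := by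
        rw [← map_add, ← LinearMap.comp_add, hid, LinearMap.comp_id]
    _ = LinearMap.trace K U a + LinearMap.trace K W c := by
        rw [← LinearMap.comp_assoc r f b, LinearMap.trace_comp_comm', hab, ← LinearMap.comp_assoc a f r, hrf, LinearMap.id_comp,
          ← LinearMap.comp_assoc g s b, LinearMap.trace_comp_comm', ← LinearMap.comp_assoc s b g, hbc,
          LinearMap.comp_assoc s g c, hs, LinearMap.comp_id]

end Linear

section Step

variable (K : Type*) {C : Type*} [Field K] [CommRing C] [Algebra K C] [Module.Finite K C]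

/-- The trace of multiplication by `y` on `C ⧸ I`. -/
noncomputable def tr (y : C) (I : Ideal C) : K := Algebra.trace K (C ⧸ I) (Ideal.Quotient.mk I y)

theorem tr_top (y : C) : tr K y ⊤ = 0 := by
  have : Subsingleton (C ⧸ (⊤ : Ideal C)) := Ideal.Quotient.subsingleton_iff.2 rfl
  rw [tr, Subsingleton.elim (Ideal.Quotient.mk (⊤ : Ideal C) y) 0, map_zero]

theorem tr_step (y : C) {I I' P : Ideal C} {π : C} (hI : I = Ideal.span {π} ⊔ I')
    (hP : ∀ c, c * π ∈ I' ↔ c ∈ P) : tr K y I' = tr K y P + tr K y I := by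
  have hle : I' ≤ I := hI ▸ le_sup_right
  let f : (C ⧸ P) →ₗ[K] (C ⧸ I') :=
    (Submodule.mapQ P I' (LinearMap.mulRight C π) (fun c hc => (hP c).2 hc)).restrictScalars K
  let g : (C ⧸ I') →ₗ[K] (C ⧸ I) := (Submodule.mapQ I' I LinearMap.id (fun c hc => hle hc)).restrictScalars K
  have hf : Function.Injective f := by
    rw [injective_iff_map_eq_zero]
    intro x
    induction x using Submodule.Quotient.induction_on with | H c =>
    intro hc
    exact (Submodule.Quotient.mk_eq_zero P).2 ((hP c).1 ((Submodule.Quotient.mk_eq_zero I').1 hc))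
  have hg : Function.Surjective g := fun x => by
    induction x using Submodule.Quotient.induction_on with | H c =>
    exact ⟨Submodule.Quotient.mk c, rfl⟩
  have hex : Function.Exact f g := by
    intro x
    induction x using Submodule.Quotient.induction_on with | H c =>
    show (Submodule.Quotient.mk c : C ⧸ I) = 0 ↔ _
    rw [Submodule.Quotient.mk_eq_zero, hI]
    constructor
    · intro hc
      obtain ⟨u, hu, v, hv, rfl⟩ := Submodule.mem_sup.1 hc
      obtain ⟨w, rfl⟩ := Ideal.mem_span_singleton'.1 hu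
      refine ⟨Submodule.Quotient.mk w, (Submodule.Quotient.eq I').2 ?_⟩
      show w * π - (w * π + v) ∈ I'
      rw [sub_add_cancel_left]
      exact neg_mem hv
    · rintro ⟨z, hz⟩
      induction z using Submodule.Quotient.induction_on with | H w =>
      have hz' : w * π - c ∈ I' := (Submodule.Quotient.eq I').1 hz
      rw [show c = w * π - (w * π - c) by ring]
      exact sub_mem (Ideal.mem_sup_left (Ideal.mem_span_singleton'.2 ⟨w, rfl⟩)) (Ideal.mem_sup_right hz')
  rw [tr, tr, tr, Algebra.trace_apply, Algebra.trace_apply, Algebra.trace_apply]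
  refine trace_of_exact hf hg hex (LinearMap.ext fun x => ?_) (LinearMap.ext fun x => ?_)
  · induction x using Submodule.Quotient.induction_on with | H c =>
    exact congrArg (Submodule.Quotient.mk (p := I')) (mul_assoc y c π).symm
  · induction x using Submodule.Quotient.induction_on with | H c =>
    rfl

end Step

section Multiset

variable (K : Type*) {B C : Type*} [Field K] [CommRing B] [IsDomain B] [CommRing C] [Algebra K C] [Module.Finite K C]

theorem tr_prod (φ : B →+* C) (hφ : Function.Surjective φ) (y : C) (s : Multiset (Ideal B))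
    (hs : ∀ P ∈ s, P.IsMaximal) [IsDedekindDomain B] (h0 : ∀ P ∈ s, P ≠ ⊥) (hker : RingHom.ker φ ≤ s.prod) :
    tr K y (s.prod.map φ) = (s.map fun P => tr K y (P.map φ)).sum := by
  induction s using Multiset.induction with
  | empty =>
    rw [Multiset.prod_zero, Ideal.one_eq_top, Ideal.map_top, tr_top, Multiset.map_zero, Multiset.sum_zero]
  | cons P s ih =>
    rw [Multiset.prod_cons] at hker ⊢
    have hJ : s.prod ≠ ⊥ := Multiset.prod_ne_zero fun h => h0 ⊥ (Multiset.mem_cons_of_mem h) rfl
    have hP := hs P (Multiset.mem_cons_self P s)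
    have hlt : P * s.prod < s.prod := by
      refine lt_of_le_of_ne Ideal.mul_le_right fun h => hP.ne_top ?_
      rw [← Ideal.one_eq_top]
      exact mul_right_cancel₀ hJ (by rw [h, one_mul])
    obtain ⟨π, hπ, hπ'⟩ := SetLike.exists_of_lt hlt
    have hkJ : RingHom.ker φ ≤ s.prod := hker.trans Ideal.mul_le_right
    have hsup : Ideal.span {π} ⊔ P * s.prod = s.prod := by
      refine le_antisymm (sup_le ((Ideal.span_singleton_le_iff_mem _).2 hπ) Ideal.mul_le_right) ?_
      obtain ⟨L, hL⟩ := Ideal.dvd_iff_le.2 (show Ideal.span {π} ⊔ P * s.prod ≤ s.prod from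
        sup_le ((Ideal.span_singleton_le_iff_mem _).2 hπ) Ideal.mul_le_right)
      have hPL : P ≤ L := by
        refine Ideal.le_of_dvd ?_
        have : s.prod * L ∣ s.prod * P := Ideal.dvd_iff_le.2 (by rw [← hL, mul_comm]; exact le_sup_right)
        exact (mul_dvd_mul_iff_left hJ).1 this
      rcases eq_or_ne L ⊤ with rfl | hLtop
      · rw [hL, Ideal.mul_top]
      · exfalso
        apply hπ'
        rw [hP.eq_of_le hLtop hPL, mul_comm, ← hL]
        exact Ideal.mem_sup_left (Ideal.mem_span_singleton_self π)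
    have hmem : ∀ {I : Ideal B}, RingHom.ker φ ≤ I → ∀ b, φ b ∈ I.map φ ↔ b ∈ I := fun {I} hI b => by
      rw [← Ideal.mem_comap, Ideal.comap_map_of_surjective φ hφ, ← RingHom.ker_eq_comap_bot, sup_eq_left.2 hI]
    rw [Multiset.map_cons, Multiset.sum_cons, ← ih (fun Q hQ => hs Q (Multiset.mem_cons_of_mem hQ))
      (fun Q hQ => h0 Q (Multiset.mem_cons_of_mem hQ)) hkJ]
    refine tr_step K y (π := φ π) ?_ fun c => ?_
    · conv_lhs => rw [← hsup]
      rw [Ideal.map_sup, Ideal.map_span, Set.image_singleton]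
    · obtain ⟨b, rfl⟩ := hφ c
      rw [← map_mul, hmem hker, hmem (hker.trans Ideal.mul_le_left)]
      refine ⟨fun hb => ?_, fun hb => Ideal.mul_mem_mul hb hπ⟩
      by_contra hbP
      obtain ⟨u, v, hv, huv⟩ := hP.exists_inv hbP
      apply hπ'
      rw [show π = u * (b * π) + v * π by linear_combination -π * huv]
      exact add_mem (Ideal.mul_mem_left _ u hb) (Ideal.mul_mem_mul hv hπ)

end Multiset

end CAlgA.TraceFactors
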