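import Groth.Agent.CAlgA.GeomTensor
import Mathlib.RingTheory.Unramified.Field
import Mathlib.RingTheory.TensorProduct.Quotient

/-! Reduced algebraic algebras over fields are von Neumann regular; quotients by the resulting ideals. -/

universe u

open TensorProduct

namespace Groth.Agent.CAlgA.VNR

/-- In a reduced algebraic algebra over a field every element is a multiple of its square. -/
lemma exists_sq_mul {k A : Type*} [Field k] [CommRing A] [Algebra k A] [Algebra.IsIntegral k A]
    [IsReduced A] (a : A) : ∃ b, a = a * a * b := by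
  classical
  obtain ⟨p, hp, hp0⟩ := Algebra.IsIntegral.isIntegral (R := k) a
  obtain ⟨r, hr, hndvd⟩ := Polynomial.exists_eq_pow_rootMultiplicity_mul_and_not_dvd p hp.ne_zero 0
  simp only [map_zero, sub_zero] at hr hndvd
  rw [Polynomial.X_dvd_iff] at hndvd
  have h0 : a * Polynomial.aeval a r = 0 := by
    refine IsReduced.eq_zero _ ⟨p.rootMultiplicity 0 + 1, ?_⟩
    have : a ^ (p.rootMultiplicity 0) * Polynomial.aeval a r = 0 := by
      have := congrArg (Polynomial.aeval a) hr
      rw [Polynomial.aeval_def, hp0, map_mul, map_pow, Polynomial.aeval_X] at this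
      exact this.symm
    rw [mul_pow, pow_succ, pow_succ, show a ^ p.rootMultiplicity 0 * a *
      (Polynomial.aeval a r ^ p.rootMultiplicity 0 * Polynomial.aeval a r) =
      a ^ p.rootMultiplicity 0 * Polynomial.aeval a r * (a * Polynomial.aeval a r ^ p.rootMultiplicity 0) by ring,
      this, zero_mul]
  rw [← Polynomial.X_mul_divX_add r, map_add, map_mul, Polynomial.aeval_X, Polynomial.aeval_C, mul_add] at h0
  have hu : algebraMap k A (r.coeff 0)⁻¹ * algebraMap k A (r.coeff 0) = 1 := by
    rw [← map_mul, inv_mul_cancel₀ hndvd, map_one]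
  refine ⟨-(algebraMap k A (r.coeff 0)⁻¹) * Polynomial.aeval a r.divX, ?_⟩
  linear_combination (algebraMap k A (r.coeff 0)⁻¹) * h0 - a * hu

lemma isReduced_tensor_separable {k : Type u} [Field k] (K k' : Type u) [Field K] [Algebra k K]
    [Field k'] [Algebra k k'] [Algebra.IsSeparable k k'] : IsReduced (K ⊗[k] k') := by
  have : IsReduced (k' ⊗[k] K) := GeomTensor.isReduced_of_finite fun F hF => by
    have : Algebra.IsSeparable k F := Algebra.isSeparable_tower_bot_of_isSeparable k F k'
    have : Algebra.FormallyUnramified k F := Algebra.FormallyUnramified.of_isSeparable k F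
    have : IsReduced (K ⊗[k] F) := by convert! Algebra.FormallyUnramified.isReduced_of_field K (K ⊗[k] F)
    exact isReduced_of_injective (Algebra.TensorProduct.comm k F K) (AlgEquiv.injective _)
  exact isReduced_of_injective (Algebra.TensorProduct.comm k K k') (AlgEquiv.injective _)

lemma exists_idem_fixing {B : Type*} [CommRing B] (G : Set B)
    (hG : ∀ g ∈ G, ∃ e ∈ Ideal.span G, IsIdempotentElem e ∧ g * e = g) (x : B) (hx : x ∈ Ideal.span G) :
    ∃ e ∈ Ideal.span G, IsIdempotentElem e ∧ x * e = x := by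
  induction hx using Submodule.span_induction with
  | mem x hx => exact hG x hx
  | zero => exact ⟨0, zero_mem _, IsIdempotentElem.zero, zero_mul 0⟩
  | add x y _ _ hx hy =>
    obtain ⟨f, hfI, hf, hxf⟩ := hx
    obtain ⟨g, hgI, hg, hyg⟩ := hy
    refine ⟨f + g - f * g, Ideal.sub_mem _ (Ideal.add_mem _ hfI hgI) (Ideal.mul_mem_left _ _ hgI),
      hf.add_sub_mul hg, ?_⟩
    linear_combination (1 - g) * hxf + (1 - f) * hyg
  | smul r x _ hx =>
    obtain ⟨f, hfI, hf, hxf⟩ := hx
    exact ⟨f, hfI, hf, by rw [smul_eq_mul, mul_assoc, hxf]⟩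

/-- A quotient of a reduced ring by (the image of) an ideal of a reduced algebraic algebra is reduced. -/
lemma isReduced_of_surjective_of_ker {k A B C : Type*} [Field k] [CommRing A] [Algebra k A]
    [Algebra.IsIntegral k A] [IsReduced A] [CommRing B] [IsReduced B] [CommRing C]
    (g : A →+* B) (f : B →+* C) (hf : Function.Surjective f) (I : Ideal A)
    (hker : RingHom.ker f = I.map g) : IsReduced C := by
  refine ⟨fun c ⟨n, hn⟩ => ?_⟩
  obtain ⟨x, rfl⟩ := hf c
  rw [← map_pow, ← RingHom.mem_ker, hker] at hn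
  obtain ⟨e, heI, he, hxe⟩ := exists_idem_fixing (g '' (I : Set A)) (fun _ ⟨a, ha, hga⟩ => by
    obtain ⟨b, hb⟩ := exists_sq_mul (k := k) a
    refine ⟨g (a * b), Ideal.subset_span ⟨_, I.mul_mem_right b ha, rfl⟩, ?_, ?_⟩
    · rw [IsIdempotentElem, ← map_mul]
      congr 1
      linear_combination -b * hb
    · rw [← hga, ← map_mul, ← mul_assoc, ← hb]) (x ^ n) hn
  have hz : x * (1 - e) = 0 := IsReduced.eq_zero _ ⟨n + 1, by
    rw [mul_pow, he.one_sub.pow_succ_eq, pow_succ, mul_comm (x ^ n) x, mul_assoc, mul_sub, mul_one, hxe, sub_self, mul_zero]⟩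
  rw [mul_sub, mul_one, sub_eq_zero] at hz
  rw [hz, ← RingHom.mem_ker, hker]
  exact Ideal.mul_mem_left _ _ heI

end Groth.Agent.CAlgA.VNR
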