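import Groth.Agent.CAlgA.RelSyzygy
import Groth.Agent.FlatMisc.ValuationEFT
import Groth.Agent.RegLoc.Homological
import Groth.Agent.RegLoc.PD
import Mathlib

/-!
# Projective dimension over local rings of flat algebras over valuation rings

`A` local, essentially of finite type over a valuation ring `V`, flat over `V`; `p` an ideal of `V` with
`pA` proper and `A/pA` regular of dimension `n`.  Then finitely presented `A`-modules flat over `V` have
projective dimension at most `n`.
-/

set_option autoImplicit false
set_option linter.style.haveILetI false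

universe u

open CategoryTheory TensorProduct Function

namespace Groth.Agent.CAlgA.ValuationPD

variable {V A : Type u} [CommRing V] [CommRing A] [Algebra V A]

/-- Reduction modulo `pA` keeps a presentation of a `V`-flat module exact. -/
theorem injective_baseChange_quot {F M : Type u} [AddCommGroup F] [Module A F] [Module V F] [IsScalarTower V A F]
    [AddCommGroup M] [Module A M] [Module V M] [IsScalarTower V A M] [Module.Flat V M]
    (q : F →ₗ[A] M) (hq : Surjective q) (p : Ideal V) :
    Injective ((LinearMap.ker q).subtype.baseChange (A ⧸ p.map (algebraMap V A))) := by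
  let K := LinearMap.ker q
  let I := p.map (algebraMap V A)
  have hz : ∀ (R : Type u) [CommRing R] (J : Ideal R) (X : Type u) [AddCommGroup X] [Module R X] (x : X),
      ((1 : R ⧸ J) ⊗ₜ[R] x = 0) ↔ x ∈ J • (⊤ : Submodule R X) := fun R _ J X _ _ x => by
    rw [← (TensorProduct.quotTensorEquivQuotSMul X J).map_eq_zero_iff, ← map_one (Ideal.Quotient.mk J),
      TensorProduct.quotTensorEquivQuotSMul_mk_tmul, one_smul, Submodule.Quotient.mk_eq_zero]
  have hsm : ∀ (X : Type u) [AddCommGroup X] [Module A X] [Module V X] [IsScalarTower V A X] (x : X),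
      x ∈ I • (⊤ : Submodule A X) ↔ x ∈ p • (⊤ : Submodule V X) := fun X _ _ _ _ x => by
    show x ∈ (p.map (algebraMap V A) • (⊤ : Submodule A X)).restrictScalars V ↔ _
    rw [Ideal.smul_restrictScalars, Submodule.restrictScalars_top]
  rw [injective_iff_map_eq_zero]
  intro w hw
  obtain ⟨x, rfl⟩ : ∃ x : K, (1 : A ⧸ I) ⊗ₜ[A] x = w := TensorProduct.mk_surjective A K (A ⧸ I) Ideal.Quotient.mk_surjective w
  rw [LinearMap.baseChange_tmul, hz, hsm, ← hz V p] at hw
  rw [hz, hsm, ← hz V p]
  exact LinearMap.lTensor_injective_of_exact_of_flat (q.restrictScalars V) hq (K.subtype.restrictScalars V)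
    K.subtype_injective (LinearMap.exact_subtype_ker_map q) (V ⧸ p) (hw.trans (map_zero _).symm)

/-- Nakayama: a finite module with trivial reduction is trivial. -/
theorem subsingleton_of_reduction [IsLocalRing A] {I : Ideal A} (hI : I ≠ ⊤) (N : Type u) [AddCommGroup N]
    [Module A N] [Module.Finite A N] [Subsingleton ((A ⧸ I) ⊗[A] N)] : Subsingleton N := by
  haveI : Subsingleton (IsLocalRing.ResidueField A ⊗[A] N) :=
    (LinearMap.rTensor_surjective N (g := Submodule.factor (IsLocalRing.le_maximalIdeal hI))
      (Submodule.factor_surjective _)).subsingleton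
  exact IsLocalRing.subsingleton_tensorProduct.1 ‹Subsingleton (IsLocalRing.ResidueField A ⊗[A] N)›

/-- Submodules of `V`-flat modules are flat over a valuation ring. -/
theorem flat_of_injective [IsDomain V] [ValuationRing V] {N F : Type u} [AddCommGroup N] [Module V N]
    [AddCommGroup F] [Module V F] [Module.Flat V F] (f : N →ₗ[V] F) (hf : Injective f) : Module.Flat V N := by
  rw [Module.Flat.flat_iff_torsion_eq_bot_of_isBezout, eq_bot_iff]
  intro x hx
  obtain ⟨⟨a, ha⟩, hax⟩ := (Submodule.mem_torsion_iff x).1 hx
  have : a • f x = 0 := by rw [← map_smul, show a • x = 0 from hax, map_zero]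
  refine (Submodule.mem_bot V).2 (hf ?_)
  rw [(Module.Flat.isSMulRegular_of_nonZeroDivisors ha).right_eq_zero_of_smul this, map_zero]

variable [IsLocalRing A] [Algebra.EssFiniteType V A] [IsDomain V] [ValuationRing V]

/-- Finite `V`-flat modules are finitely presented. -/
theorem finitePresentation (N : Type u) [AddCommGroup N] [Module A N] [Module V N] [IsScalarTower V A N]
    [Module.Finite A N] [Module.Flat V N] : Module.FinitePresentation A N :=
  FlatMisc.ValuationEFT.finitePresentation (A := V) N fun a x h =>
    (Classical.em (a = 0)).imp_right fun ha =>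
      (Module.Flat.isSMulRegular_of_nonZeroDivisors (mem_nonZeroDivisors_of_ne_zero ha)).right_eq_zero_of_smul h

variable {p : Ideal V}

/-- A `V`-flat module free modulo `pA` is free. -/
theorem projective_of_reduction (hp : p.map (algebraMap V A) ≠ ⊤) (M : Type u) [AddCommGroup M] [Module A M]
    [Module V M] [IsScalarTower V A M] [Module.FinitePresentation A M] [Module.Flat V M]
    [Module.Projective (A ⧸ p.map (algebraMap V A)) ((A ⧸ p.map (algebraMap V A)) ⊗[A] M)] :
    Module.Projective A M := by
  let I := p.map (algebraMap V A)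
  let L := A ⧸ I
  haveI : Nontrivial L := Ideal.Quotient.nontrivial_iff.2 hp
  haveI : IsLocalRing L := IsLocalRing.of_surjective' (Ideal.Quotient.mk I) Ideal.Quotient.mk_surjective
  haveI : Module.Free L (L ⊗[A] M) := Module.free_of_flat_of_isLocalRing
  let b := Module.Free.chooseBasis L (L ⊗[A] M)
  have hlift : ∀ i, ∃ m : M, (1 : L) ⊗ₜ[A] m = b i := fun i =>
    TensorProduct.mk_surjective A M L Ideal.Quotient.mk_surjective (b i)
  choose m hm using hlift
  let φ : (Module.Free.ChooseBasisIndex L (L ⊗[A] M) → A) →ₗ[A] M := Fintype.linearCombination A m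
  let j : (Module.Free.ChooseBasisIndex L (L ⊗[A] M) → L) →ₗ[L]
      L ⊗[A] (Module.Free.ChooseBasisIndex L (L ⊗[A] M) → A) :=
    Fintype.linearCombination L fun i => (1 : L) ⊗ₜ[A] Pi.single i 1
  have hj : ∀ v, φ.baseChange L (j v) = b.equivFun.symm v := by
    intro v
    rw [Fintype.linearCombination_apply, map_sum, b.equivFun_symm_apply]
    refine Finset.sum_congr rfl fun i _ => ?_
    rw [map_smul, LinearMap.baseChange_tmul, Fintype.linearCombination_apply_single, one_smul, hm]
  have hjsurj : Surjective j := by
    intro w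
    induction w with
    | zero => exact ⟨0, map_zero j⟩
    | add a c ha hc =>
      obtain ⟨x, rfl⟩ := ha
      obtain ⟨y, rfl⟩ := hc
      exact ⟨x + y, map_add j x y⟩
    | tmul l v =>
      refine ⟨fun i => l * algebraMap A L (v i), ?_⟩
      rw [Fintype.linearCombination_apply]
      conv_rhs => rw [pi_eq_sum_univ' v, TensorProduct.tmul_sum]
      refine Finset.sum_congr rfl fun i _ => ?_
      rw [TensorProduct.smul_tmul', smul_eq_mul, mul_one, mul_comm, ← Algebra.smul_def, TensorProduct.smul_tmul]
  have hbij : Bijective (φ.baseChange L) := by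
    refine ⟨fun x y h => ?_, fun w => ⟨j (b.equivFun w), by rw [hj, LinearEquiv.symm_apply_apply]⟩⟩
    obtain ⟨x, rfl⟩ := hjsurj x
    obtain ⟨y, rfl⟩ := hjsurj y
    rw [hj, hj] at h
    rw [b.equivFun.symm.injective h]
  have hφ : Surjective φ := by
    rw [← LinearMap.range_eq_top, ← Submodule.Quotient.subsingleton_iff]
    haveI : Subsingleton (L ⊗[A] (M ⧸ LinearMap.range φ)) := by
      refine ⟨fun a c => ?_⟩
      suffices h : ∀ w : L ⊗[A] (M ⧸ LinearMap.range φ), w = 0 by rw [h a, h c]
      intro w
      obtain ⟨w, rfl⟩ := LinearMap.lTensor_surjective L (LinearMap.range φ).mkQ_surjective w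
      obtain ⟨v, rfl⟩ := hbij.2 w
      show ((LinearMap.range φ).mkQ.lTensor L) (φ.lTensor L v) = 0
      rw [← LinearMap.comp_apply, ← LinearMap.lTensor_comp, LinearMap.range_mkQ_comp, LinearMap.lTensor_zero]
      rfl
    exact subsingleton_of_reduction hp _
  haveI : Module.Finite A (LinearMap.ker φ) := Module.Finite.iff_fg.2 (Module.FinitePresentation.fg_ker φ hφ)
  haveI : Subsingleton (L ⊗[A] LinearMap.ker φ) := by
    refine ⟨fun a c => injective_baseChange_quot φ hφ p (hbij.1 ?_)⟩
    have : ∀ z : L ⊗[A] LinearMap.ker φ, φ.baseChange L ((LinearMap.ker φ).subtype.baseChange L z) = 0 := fun z => by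
      rw [← LinearMap.comp_apply, ← LinearMap.baseChange_comp, LinearMap.comp_ker_subtype, LinearMap.baseChange_zero]
      rfl
    rw [this, this]
  haveI : Subsingleton (LinearMap.ker φ) := subsingleton_of_reduction hp _
  have hinj : Injective φ := LinearMap.ker_eq_bot.1 (Submodule.eq_bot_of_subsingleton)
  exact Module.Projective.of_equiv (LinearEquiv.ofBijective φ ⟨hinj, hφ⟩)

variable [Module.Flat V A]

/-- The kernel of a presentation is flat over `V` and finitely presented. -/
theorem ker_flat_and_fp {M : Type u} [AddCommGroup M] [Module A M] [Module.FinitePresentation A M]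
    {r : ℕ} (q : (Fin r → A) →ₗ[A] M) (hq : Surjective q) :
    Module.Flat V (LinearMap.ker q) ∧ Module.FinitePresentation A (LinearMap.ker q) := by
  haveI : Module.Flat V (Fin r → A) := Module.Flat.trans V A (Fin r → A)
  haveI : Module.Flat V (LinearMap.ker q) :=
    flat_of_injective ((LinearMap.ker q).subtype.restrictScalars V) (LinearMap.ker q).subtype_injective
  haveI : Module.Finite A (LinearMap.ker q) := Module.Finite.iff_fg.2 (Module.FinitePresentation.fg_ker q hq)
  exact ⟨inferInstance, finitePresentation (V := V) (LinearMap.ker q)⟩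

/-- The bound, by descending induction from the fibre. -/
theorem pd_le_of_reduction (hp : p.map (algebraMap V A) ≠ ⊤) (k : ℕ) :
    ∀ (M : Type u) [AddCommGroup M] [Module A M] [Module V M] [IsScalarTower V A M]
      [Module.FinitePresentation A M] [Module.Flat V M],
      HasProjectiveDimensionLE
        (ModuleCat.of (A ⧸ p.map (algebraMap V A)) ((A ⧸ p.map (algebraMap V A)) ⊗[A] M)) k →
      HasProjectiveDimensionLE (ModuleCat.of A M) k := by
  induction k with
  | zero =>
    intro M _ _ _ _ _ _ h
    rw [RegLoc.PD.pd_zero_iff] at h ⊢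
    haveI := h
    exact projective_of_reduction hp M
  | succ k ih =>
    intro M _ _ _ _ _ _ h
    obtain ⟨r, q, hq⟩ := Module.Finite.exists_fin' A M
    obtain ⟨hK, hfp⟩ := ker_flat_and_fp (V := V) q hq
    let L := A ⧸ p.map (algebraMap V A)
    let e := RegLoc.PD.kerBaseChangeEquiv L q hq (injective_baseChange_quot q hq p)
    rw [RegLoc.PD.pd_shift (q.baseChange L) (RegLoc.PD.baseChange_surjective L q hq) k] at h
    exact (RegLoc.PD.pd_shift q hq k).2 (ih (LinearMap.ker q) (RegLoc.PD.pd_congr e.symm k h))

/-- Regular fibre of dimension `n`: projective dimension at most `n`. -/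
theorem pd_le_fibreDim (n : ℕ) (hreg : IsRegularLocalRing (A ⧸ p.map (algebraMap V A)))
    (hn : ringKrullDim (A ⧸ p.map (algebraMap V A)) = n) (M : Type u) [AddCommGroup M] [Module A M]
    [Module V M] [IsScalarTower V A M] [Module.FinitePresentation A M] [Module.Flat V M] :
    HasProjectiveDimensionLE (ModuleCat.of A M) n :=
  haveI := hreg
  pd_le_of_reduction (Ideal.Quotient.nontrivial_iff.1 inferInstance) n M (RegLoc.Homological.pd_le_dim hn _)

/-- Without flatness over `V`: one more. -/
theorem pd_le_fibreDim_succ (n : ℕ) (hreg : IsRegularLocalRing (A ⧸ p.map (algebraMap V A)))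
    (hn : ringKrullDim (A ⧸ p.map (algebraMap V A)) = n) (M : Type u) [AddCommGroup M] [Module A M]
    [Module.FinitePresentation A M] : HasProjectiveDimensionLE (ModuleCat.of A M) (n + 1) := by
  obtain ⟨r, q, hq⟩ := Module.Finite.exists_fin' A M
  obtain ⟨hK, hfp⟩ := ker_flat_and_fp (V := V) q hq
  exact (RegLoc.PD.pd_shift q hq n).2 (pd_le_fibreDim n hreg hn (LinearMap.ker q))

/-- Kernels of maps of finite free modules: one less. -/
theorem pd_ker_le (n : ℕ) (hreg : IsRegularLocalRing (A ⧸ p.map (algebraMap V A)))
    (hn : ringKrullDim (A ⧸ p.map (algebraMap V A)) = n) {a b : ℕ} (g : (Fin a → A) →ₗ[A] (Fin b → A)) :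
    HasProjectiveDimensionLE (ModuleCat.of A (LinearMap.ker g)) (n - 1) := by
  let R := LinearMap.range g
  haveI : Module.FinitePresentation A ((Fin b → A) ⧸ R) :=
    Module.finitePresentation_of_surjective R.mkQ R.mkQ_surjective (by
      rw [Submodule.ker_mkQ]; exact Module.Finite.iff_fg.1 inferInstance)
  have hR : HasProjectiveDimensionLE (ModuleCat.of A R) n :=
    RegLoc.PD.pd_congr (LinearEquiv.ofEq _ _ (Submodule.ker_mkQ R)) n
      ((RegLoc.PD.pd_shift R.mkQ R.mkQ_surjective n).1 (pd_le_fibreDim_succ (p := p) n hreg hn _))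
  let e : LinearMap.ker g.rangeRestrict ≃ₗ[A] LinearMap.ker g := LinearEquiv.ofEq _ _ (LinearMap.ker_rangeRestrict g)
  cases n with
  | zero =>
    rw [RegLoc.PD.pd_zero_iff] at hR
    haveI := hR
    obtain ⟨s, hs⟩ := Module.projective_lifting_property g.rangeRestrict LinearMap.id g.surjective_rangeRestrict
    refine RegLoc.PD.pd_congr e 0 (RegLoc.PD.pd_retract (M := Fin a → A) (LinearMap.ker g.rangeRestrict).subtype
      (LinearMap.codRestrict _ (LinearMap.id - s ∘ₗ g.rangeRestrict) fun x => ?_)
      (LinearMap.ext fun x => Subtype.ext ?_) 0 (RegLoc.PD.pd_of_projective _ 0))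
    · rw [LinearMap.mem_ker, LinearMap.sub_apply, map_sub, LinearMap.id_apply, LinearMap.comp_apply,
        ← LinearMap.comp_apply g.rangeRestrict s, hs, LinearMap.id_apply, sub_self]
    · show (x : Fin a → A) - s (g.rangeRestrict x) = x
      rw [LinearMap.mem_ker.1 x.2, map_zero, sub_zero]
  | succ m => exact RegLoc.PD.pd_congr e m ((RegLoc.PD.pd_shift g.rangeRestrict g.surjective_rangeRestrict m).1 hR)

/-- Reflexive modules: one less. -/
theorem pd_reflexive_le (n : ℕ) (hreg : IsRegularLocalRing (A ⧸ p.map (algebraMap V A)))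
    (hn : ringKrullDim (A ⧸ p.map (algebraMap V A)) = n) (M : Type u) [AddCommGroup M] [Module A M]
    [Module.FinitePresentation A M] [Module.IsReflexive A M] :
    HasProjectiveDimensionLE (ModuleCat.of A M) (n - 1) := by
  -- the dual of a presentation
  have dual : ∀ (N : Type u) [AddCommGroup N] [Module A N] [Module.FinitePresentation A N],
      ∃ (a b : ℕ) (g : (Fin a → A) →ₗ[A] (Fin b → A)), Nonempty (Module.Dual A N ≃ₗ[A] LinearMap.ker g) := by
    intro N _ _ _
    obtain ⟨a, q, hq⟩ := Module.Finite.exists_fin' A N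
    obtain ⟨b, h, hh⟩ := Submodule.fg_iff_exists_fin_generating_family.1 (Module.FinitePresentation.fg_ker q hq)
    let d : Module.Dual A N →ₗ[A] (Fin a → A) := LinearMap.pi fun i => Module.Dual.eval A N (q (Pi.single i 1))
    let g : (Fin a → A) →ₗ[A] (Fin b → A) := LinearMap.pi fun k => ∑ i, h k i • LinearMap.proj i
    have hd : Injective d := fun f₁ f₂ hf => LinearMap.ext fun x => by
      obtain ⟨v, rfl⟩ := hq x
      rw [pi_eq_sum_univ' v, map_sum, map_sum, map_sum]
      refine Finset.sum_congr rfl fun i _ => ?_
      rw [map_smul, map_smul, map_smul]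
      exact congrArg _ (congrFun hf i)
    have hqsum : ∀ v, q v = ∑ i, v i • q (Pi.single i 1) := fun v => by
      conv_lhs => rw [pi_eq_sum_univ' v]
      rw [map_sum]
      simp only [map_smul]
    have hrange : LinearMap.range d = LinearMap.ker g := by
      ext x
      constructor
      · rintro ⟨f, rfl⟩
        refine LinearMap.mem_ker.2 (funext fun k => ?_)
        have h0 : q (h k) = 0 := LinearMap.mem_ker.1 (hh ▸ Submodule.subset_span ⟨k, rfl⟩)
        simp only [g, LinearMap.pi_apply, LinearMap.sum_apply, LinearMap.smul_apply, LinearMap.proj_apply,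
          d, Module.Dual.eval_apply, Pi.zero_apply]
        rw [← map_zero f, ← h0, hqsum, map_sum]
        simp only [map_smul]
      · intro hx
        let ψ : (Fin a → A) →ₗ[A] A := ∑ i, x i • LinearMap.proj i
        have hψ : LinearMap.ker q ≤ LinearMap.ker ψ := by
          rw [← hh, Submodule.span_le]
          rintro - ⟨k, rfl⟩
          have := congrFun (LinearMap.mem_ker.1 hx) k
          simp only [g, LinearMap.pi_apply, LinearMap.sum_apply, LinearMap.smul_apply, LinearMap.proj_apply,
            Pi.zero_apply, smul_eq_mul] at this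
          simp only [ψ, SetLike.mem_coe, LinearMap.mem_ker, LinearMap.sum_apply, LinearMap.smul_apply,
            LinearMap.proj_apply, smul_eq_mul]
          exact (Finset.sum_congr rfl fun i _ => mul_comm _ _).trans this
        refine ⟨(LinearMap.ker q).liftQ ψ hψ ∘ₗ (q.quotKerEquivOfSurjective hq).symm.toLinearMap, funext fun i => ?_⟩
        simp only [d, LinearMap.pi_apply, Module.Dual.eval_apply, LinearMap.comp_apply, LinearEquiv.coe_coe,
          LinearMap.quotKerEquivOfSurjective_symm_apply, Submodule.liftQ_apply]
        simp [ψ, Pi.single_apply]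
    exact ⟨a, b, g, ⟨(LinearEquiv.ofInjective d hd).trans (LinearEquiv.ofEq _ _ hrange)⟩⟩
  obtain ⟨a, b, g, ⟨e⟩⟩ := dual M
  haveI : Module.Flat V (Fin a → A) := Module.Flat.trans V A (Fin a → A)
  haveI : Module.Flat V (Fin b → A) := Module.Flat.trans V A (Fin b → A)
  haveI : Module.Flat V (LinearMap.range g) :=
    flat_of_injective ((LinearMap.range g).subtype.restrictScalars V) (LinearMap.range g).subtype_injective
  haveI : Module.FinitePresentation A (LinearMap.range g) := finitePresentation (V := V) _
  haveI : Module.Finite A (LinearMap.ker g) := by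
    rw [← LinearMap.ker_rangeRestrict]
    exact Module.Finite.iff_fg.2 (Module.FinitePresentation.fg_ker g.rangeRestrict g.surjective_rangeRestrict)
  haveI : Module.Flat V (LinearMap.ker g) :=
    flat_of_injective ((LinearMap.ker g).subtype.restrictScalars V) (LinearMap.ker g).subtype_injective
  haveI : Module.FinitePresentation A (LinearMap.ker g) := finitePresentation (V := V) _
  haveI : Module.FinitePresentation A (Module.Dual A M) := Module.finitePresentation_of_surjective e.symm.toLinearMap e.symm.surjective (by rw [LinearEquiv.ker]; exact Submodule.fg_bot)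
  obtain ⟨a', b', g', ⟨e'⟩⟩ := dual (Module.Dual A M)
  exact RegLoc.PD.pd_congr ((Module.evalEquiv A M).trans e').symm (n - 1) (pd_ker_le n hreg hn g')

end Groth.Agent.CAlgA.ValuationPD
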